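import Cfsg.Agent.H612.Deg3.NonCusp
import Cfsg.Agent.H597.IndexP
import Cfsg.Agent.Blocks.Deflate

/-!
# The constituents of the characters of `SL_3(q)` induced from a maximal parabolic subgroup (helper612)
-/

set_option autoImplicit false
set_option linter.unusedSectionVars false
set_option linter.unusedSimpArgs false

open scoped ComplexConjugate
open Cfsg Matrix

namespace Cfsg.Agent.H612.Deg3

open Cfsg.Agent.Characters Cfsg.Agent.Characters.Core Cfsg.Agent.OddOrderCharacters.Clifford Cfsg.Agent.H53.HC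
  Cfsg.Agent.H627.Gow Cfsg.Agent.H670 Cfsg.Agent.H670.RankOne

universe u v

variable {F : Type v} [Field F] [Fintype F] [Fintype Fˣ] [Fintype (SpecialLinearGroup (Fin 3) F)]
  [Fintype (GL (Fin 2) F)]

/-- the degrees by the fixed vectors of the unipotent subgroup -/
theorem deg_cf {Ψ : GL (Fin 2) F → ℂ} (hΨ : IsIrrCharacter _ Ψ) :
    ((GL2.data F).cf Ψ 0 = 0 → Ψ 1 = (Fintype.card F : ℂ) - 1) ∧
    ((GL2.data F).cf Ψ 0 = 1 → Ψ 1 = 1 ∨ Ψ 1 = (Fintype.card F : ℂ)) ∧
    ((GL2.data F).cf Ψ 0 = 2 → Ψ 1 = (Fintype.card F : ℂ) + 1) := by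
  have h1 := (GL2.data F).degree_eq ⟨Ψ, hΨ⟩
  have h2 := (GL2.data F).types_surj GL2.hasAnti GL2.a_surj ⟨Ψ, hΨ⟩
  simp only [Finset.mem_insert, Finset.mem_singleton, Prod.mk.injEq] at h2
  have h3 : Ψ 1 = ((∑ c : F, (GL2.data F).n ⟨Ψ, hΨ⟩ c : ℕ) : ℂ) := h1
  have hpos : 1 ≤ Fintype.card F := Fintype.card_pos
  rw [(GL2.data F).sum_n_eq GL2.a_surj, Nat.cast_add, Nat.cast_mul, Nat.cast_sub hpos] at h3
  have h4 : (GL2.data F).cf Ψ 0 = ((GL2.data F).n ⟨Ψ, hΨ⟩ 0 : ℂ) := (GL2.data F).cf_eq_n ⟨Ψ, hΨ⟩ 0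
  rw [h4]
  rcases h2 with ⟨a1, a2⟩ | ⟨a1, a2⟩ | ⟨a1, a2⟩ | ⟨a1, a2⟩ <;> rw [a1, a2] at h3 <;> rw [a1] <;>
    push_cast at h3 <;> refine ⟨fun h => ?_, fun h => ?_, fun h => ?_⟩ <;> first
      | (exfalso; norm_num at h; done)
      | linear_combination h3
      | (left; linear_combination h3)
      | (right; linear_combination h3)

/-- the constituents of `ind mu`, `mu` invariant -/
theorem half_J {mu : (GL2.data F).T →* ℂˣ} (hmu : mu = mu.comp (GL2.data F).wT) {Ψ : GL (Fin 2) F → ℂ}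
    (hΨ : IsIrrCharacter _ Ψ) (h : classInner Ψ ((GL2.data F).ind mu) ≠ 0) :
    (J Ψ = fun z => (fl mu z : ℂ)) ∧ (GL2.data F).cf Ψ 0 = 1 := by
  classical
  have : Fintype (GL2.data F).T := Fintype.ofFinite _
  rw [(GL2.data F).classInner_ind (isIrr_isClassFunction hΨ)] at h
  rcases (GL2.data F).trichotomy hΨ with h0 | ⟨h1, lam, hlam, hj, -⟩ | ⟨-, lam, hlam, rfl⟩
  · exfalso
    apply h
    have h1 : (GL2.data F).jac Ψ = 0 := by
      funext t
      obtain ⟨z, rfl⟩ := GL2.exists_tt t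
      exact congrFun (J_cusp hΨ h0) z
    rw [h1, classInner_zero_left]
  · refine ⟨?_, h1⟩
    have h2 : (GL2.data F).jac Ψ = fun t => (lam t : ℂ) := funext hj
    rw [h2, inner_hom] at h
    split_ifs at h with h3
    · subst h3
      funext z
      exact hj _
    · exact absurd rfl h
  · exfalso
    rw [← (GL2.data F).classInner_ind (isIrr_isClassFunction hΨ), Data.inner_ind] at h
    rw [← hmu] at h
    by_cases h3 : lam = mu
    · rw [h3] at hlam
      exact hlam hmu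
    · rw [if_neg h3, add_zero] at h
      exact h rfl

theorem X_eq_zero_left {Ψ Φ : GL (Fin 2) F → ℂ} (h : J Ψ = 0) : X Ψ Φ = 0 := by
  rw [X_eq, h, classInner_zero_left]

/-- a cuspidal character of `GL_2` induces irreducibly -/
theorem norm_cusp {Ψ : GL (Fin 2) F → ℂ} (hΨ : IsIrrCharacter _ Ψ) (h : (GL2.data F).cf Ψ 0 = 0) :
    classInner (I Ψ) (I Ψ) = 1 := by
  rw [inner_I (isIrr_isClassFunction hΨ) (isIrr_isClassFunction hΨ), classInner_irr_self hΨ,
    X_eq_zero_left (J_cusp hΨ h), add_zero]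

/-- the norm in the half case -/
theorem norm_half {Ψ : GL (Fin 2) F → ℂ} (hΨ : IsIrrCharacter _ Ψ) {f : Fˣ × Fˣ →* ℂˣ}
    (hJ : J Ψ = fun z => (f z : ℂ)) (hf : f ≠ f.comp sg) : classInner (I Ψ) (I Ψ) = 1 := by
  classical
  rw [inner_I (isIrr_isClassFunction hΨ) (isIrr_isClassFunction hΨ), classInner_irr_self hΨ,
    X_hom hJ hJ, if_neg hf, add_zero]

/-! ### The centre -/

theorem gl2_scalar_comm (c : Fˣ) (g : GL (Fin 2) F) : GL2.tor (c, c) * g = g * GL2.tor (c, c) := by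
  apply GL2.ext4 <;> simp [GL2.mul00, GL2.mul01, GL2.mul10, GL2.mul11, GL2.tor00, GL2.tor01, GL2.tor10, GL2.tor11,
    mul_comm]

theorem ind_scalar {lam : (GL2.data F).T →* ℂˣ} (h : ∀ c, fl lam (c, c) = 1) (c : Fˣ) :
    (GL2.data F).ind lam (GL2.tor (c, c)) = (GL2.data F).ind lam 1 := by
  have h1 := (GL2.data F).ind_central_mul lam (z := GL2.tt (c, c)) (fun g => by
    rw [GL2.tt_coe]; exact gl2_scalar_comm c g) 1
  rw [mul_one, GL2.tt_coe] at h1
  rw [h1, ← fl_apply, h, Units.val_one, one_mul]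

/-- the centre is in the kernel -/
def ZT (χ : SpecialLinearGroup (Fin 3) F → ℂ) : Prop :=
  ∀ z ∈ Subgroup.center (SpecialLinearGroup (Fin 3) F), χ z = χ 1

theorem zt_I {Ψ : GL (Fin 2) F → ℂ} (h : ∀ c, Ψ (GL2.tor (c, c)) = Ψ 1) : ZT (I Ψ) := by
  intro z hz
  obtain ⟨r, hr, hz'⟩ := Matrix.SpecialLinearGroup.mem_center_iff.1 hz
  have hr0 : r ≠ 0 := by
    rintro rfl
    simp at hr
  have e : ∀ i j, (z : Matrix (Fin 3) (Fin 3) F) i j = if i = j then r else 0 := by
    intro i j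
    rw [← hz', Matrix.scalar_apply, Matrix.diagonal_apply]
  have hzP : z ∈ P F := ⟨by rw [e]; simp, by rw [e]; simp⟩
  refine I_scalar Ψ hz hzP ?_
  rw [← h (Units.mk0 r hr0)]
  congr 1
  rw [pi_apply]
  apply GL2.ext4
  · rw [GL2.mk00, GL2.tor00]
    change (z : Matrix (Fin 3) (Fin 3) F) 0 0 = r
    rw [e]; simp
  · rw [GL2.mk01, GL2.tor01]
    change (z : Matrix (Fin 3) (Fin 3) F) 0 1 = 0
    rw [e]; simp
  · rw [GL2.mk10, GL2.tor10]
    change (z : Matrix (Fin 3) (Fin 3) F) 1 0 = 0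
    rw [e]; simp
  · rw [GL2.mk11, GL2.tor11]
    change (z : Matrix (Fin 3) (Fin 3) F) 1 1 = r
    rw [e]; simp

theorem zt_constituent {Θ χ : SpecialLinearGroup (Fin 3) F → ℂ} (hΘ : IsCharacter _ Θ) (hχ : IsIrrCharacter _ χ)
    (h : classInner χ Θ ≠ 0) (hz : ZT Θ) : ZT χ := fun z hz' =>
  OddOrderCharacters.PF9.CliffGen.constituent_ker hΘ hχ (by
    intro h0
    apply h
    rw [← classInner_conj_symm, h0, map_zero]) (hz z hz')

theorem zt_one : ZT (1 : SpecialLinearGroup (Fin 3) F → ℂ) := fun _ _ => rfl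

/-! ### The principal block case: `1` and the Steinberg character -/

theorem J_one : J (1 : GL (Fin 2) F → ℂ) = fun z => (((1 : Fˣ × Fˣ →* ℂˣ) z : ℂˣ) : ℂ) := by
  funext z
  have hF : (Fintype.card F : ℂ) ≠ 0 := Nat.cast_ne_zero.2 Fintype.card_ne_zero
  simp [J, Data.jac_def, hF]

theorem classInner_one_I (Ψ : GL (Fin 2) F → ℂ) : classInner (I Ψ) 1 = classInner Ψ 1 := by
  classical
  have : Fintype (P F) := Fintype.ofFinite _
  unfold I
  rw [classInner_indFun (P F) _ _ (isIrr_isClassFunction isIrr_one)]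
  exact classInner_comp_surj pi pi_surj Ψ 1

theorem norm_I_one : classInner (I (1 : GL (Fin 2) F → ℂ)) (I 1) = 2 := by
  classical
  rw [inner_I (isIrr_isClassFunction isIrr_one) (isIrr_isClassFunction isIrr_one), classInner_irr_self isIrr_one,
    X_hom J_one J_one, if_pos (by ext z; simp)]
  norm_num

/-- the permutation character -/
theorem exists_perm : ∃ χ₀ : SpecialLinearGroup (Fin 3) F → ℂ, IsIrrCharacter _ χ₀ ∧ I 1 = 1 + χ₀ ∧ χ₀ ≠ 1 ∧
    χ₀ 1 = (Fintype.card F : ℂ) ^ 2 + Fintype.card F := by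
  obtain ⟨μ, ν, hμ, hν, hne, hsum⟩ := HKS.exists_add_of_norm_two (isCharacter_I (isCharacter_one (G := GL (Fin 2) F)))
    norm_I_one
  have h1 : classInner (I (1 : GL (Fin 2) F → ℂ)) 1 = 1 := by
    rw [classInner_one_I, classInner_irr_self isIrr_one]
  have h2 : μ = 1 ∨ ν = 1 := by
    by_contra hc
    push Not at hc
    rw [hsum, classInner_add_left, classInner_irr_ne hμ isIrr_one hc.1, classInner_irr_ne hν isIrr_one hc.2] at h1
    norm_num at h1
  have h3 := I_one (F := F) 1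
  rcases h2 with rfl | rfl
  · refine ⟨ν, hν, hsum, hne.symm, ?_⟩
    rw [hsum] at h3
    simp only [Pi.add_apply, Pi.one_apply] at h3
    linear_combination h3
  · refine ⟨μ, hμ, by rw [hsum, add_comm], hne, ?_⟩
    rw [hsum] at h3
    simp only [Pi.add_apply, Pi.one_apply] at h3
    linear_combination h3

/-- the Steinberg character of `GL_2` -/
theorem st_cases {Ψ : GL (Fin 2) F → ℂ} (hΨ : IsIrrCharacter _ Ψ) (hne : Ψ ≠ 1)
    (hJ : J Ψ = fun z => (((1 : Fˣ × Fˣ →* ℂˣ) z : ℂˣ) : ℂ)) (hq : Ψ 1 = (Fintype.card F : ℂ))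
    {χ : SpecialLinearGroup (Fin 3) F → ℂ} (hχ : IsIrrCharacter _ χ) (h : classInner χ (I Ψ) ≠ 0) :
    χ 1 = (Fintype.card F : ℂ) ^ 2 + Fintype.card F ∨ χ 1 = (Fintype.card F : ℂ) ^ 3 := by
  classical
  obtain ⟨χ₀, h0, hs0, hn0, hd0⟩ := exists_perm (F := F)
  have hnorm : classInner (I Ψ) (I Ψ) = 2 := by
    rw [inner_I (isIrr_isClassFunction hΨ) (isIrr_isClassFunction hΨ), classInner_irr_self hΨ, X_hom hJ hJ,
      if_pos (by ext z; simp)]
    norm_num
  obtain ⟨μ, ν, hμ, hν, hne', hsum⟩ := HKS.exists_add_of_norm_two (isCharacter_I (isIrr_isCharacter hΨ)) hnorm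
  have h1 : classInner (I Ψ) (I 1) = 1 := by
    rw [inner_I (isIrr_isClassFunction hΨ) (isIrr_isClassFunction isIrr_one), classInner_irr_ne hΨ isIrr_one hne,
      X_hom hJ J_one, if_pos (by ext z; simp), zero_add]
  have h2 : classInner (I Ψ) 1 = 0 := by rw [classInner_one_I, classInner_irr_ne hΨ isIrr_one hne]
  rw [hs0, classInner_add_right, h2, zero_add] at h1
  have h3 : μ = χ₀ ∨ ν = χ₀ := by
    by_contra hc
    push Not at hc
    rw [hsum, classInner_add_left, classInner_irr_ne hμ h0 hc.1, classInner_irr_ne hν h0 hc.2] at h1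
    norm_num at h1
  have h4 : χ = μ ∨ χ = ν := by
    by_contra hc
    push Not at hc
    apply h
    rw [hsum, classInner_add_right, classInner_irr_ne hχ hμ hc.1, classInner_irr_ne hχ hν hc.2, add_zero]
  have h5 := I_one (F := F) Ψ
  rw [hsum, hq, Pi.add_apply] at h5
  rcases h3 with rfl | rfl <;> rcases h4 with rfl | rfl
  · exact Or.inl hd0
  · right
    rw [hd0] at h5
    linear_combination h5
  · right
    rw [hd0] at h5
    linear_combination h5
  · exact Or.inl hd0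

/-! ### The principal series -/

/-- the principal series with a character fixed by a second reflection -/
theorem ps_fixed {lam : (GL2.data F).T →* ℂˣ} (hlam : lam ≠ lam.comp (GL2.data F).wT)
    (hf : fl lam = (fl lam).comp sg) {χ : SpecialLinearGroup (Fin 3) F → ℂ} (hχ : IsIrrCharacter _ χ)
    (h : classInner χ (I ((GL2.data F).ind lam)) ≠ 0) :
    χ 1 = (Fintype.card F : ℂ) ^ 2 + Fintype.card F + 1 ∨
      χ 1 = (Fintype.card F : ℂ) * ((Fintype.card F : ℂ) ^ 2 + Fintype.card F + 1) := by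
  classical
  have hΨ := (GL2.data F).isIrr_ind hlam
  have hne : fl lam ≠ sw (fl lam) := fun h' => hlam ((fl_eq_iff lam).2 h')
  have hfix := (fix_sg_iff _).1 hf
  -- the inverse of the first component
  let α : Fˣ →* ℂˣ := ((fl lam).comp (MonoidHom.inl Fˣ Fˣ))⁻¹
  have hα : ∀ a, α a = (fl lam (a, 1))⁻¹ := fun a => rfl
  have hfl : ∀ a b, fl lam (a, b) = (α a)⁻¹ := by
    intro a b
    have : ((a, b) : Fˣ × Fˣ) = (a, 1) * (1, b) := by simp
    rw [this, map_mul, hfix, mul_one, hα, inv_inv]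
  let mu := GL2.lamE F (α, α)
  have hmu : mu = mu.comp (GL2.data F).wT := (GL2.lamE_invariant_iff (α, α)).2 rfl
  have hmuf : ∀ a b, fl mu (a, b) = α a * α b := fun a b => GL2.lamE_tt (α, α) (a, b)
  have key : (fl mu).comp sg = sw (fl lam) := by
    ext ⟨a, b⟩
    rw [MonoidHom.comp_apply, sg_apply, sw_apply]
    simp only [Prod.swap_prod_mk]
    rw [hmuf, hfl, map_inv, map_mul, _root_.mul_inv_rev, mul_comm (α b)⁻¹, mul_inv_cancel_left]
  have hmuw : fl mu = sw (fl mu) := (fl_eq_iff mu).1 hmu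
  have hmune : fl mu ≠ (fl mu).comp sg := by
    intro h'
    rw [key] at h'
    apply hne
    have h2 := congrArg sw h'
    rw [← hmuw, sw_sw] at h2
    rw [← h2, ← hmuw]
  obtain ⟨Ψ₁, Ψ₂, h1, h2, h12, hsum⟩ := (GL2.data F).exists_ind_eq_add hmu
  have i1 : classInner Ψ₁ ((GL2.data F).ind mu) ≠ 0 := by
    rw [hsum, classInner_add_right, classInner_irr_self h1, classInner_irr_ne h1 h2 h12, add_zero]
    exact one_ne_zero
  have i2 : classInner Ψ₂ ((GL2.data F).ind mu) ≠ 0 := by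
    rw [hsum, classInner_add_right, classInner_irr_self h2, classInner_irr_ne h2 h1 h12.symm, zero_add]
    exact one_ne_zero
  obtain ⟨j1, c1⟩ := half_J hmu h1 i1
  obtain ⟨j2, c2⟩ := half_J hmu h2 i2
  -- the inner products with the principal series
  have hX : ∀ Φ : GL (Fin 2) F → ℂ, J Φ = (fun z => (fl mu z : ℂ)) → X ((GL2.data F).ind lam) Φ = 1 := by
    intro Φ hΦ
    rw [X_eq, J_ind, fl_wT', hΦ]
    have e3 : (fun z => (fl mu z : ℂ)) ∘ (sg : Fˣ × Fˣ →* Fˣ × Fˣ) = fun z => (((fl mu).comp sg) z : ℂ) := rfl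
    rw [e3, key, classInner_add_left, inner_hom, inner_hom, if_neg hne, if_pos rfl, zero_add]
  have hneΨ : ∀ Φ : GL (Fin 2) F → ℂ, J Φ = (fun z => (fl mu z : ℂ)) → (GL2.data F).ind lam ≠ Φ := by
    rintro Φ hΦ rfl
    have h3 := J_ind lam
    rw [hΦ] at h3
    have h4 := congrFun h3 1
    simp only [Pi.add_apply, map_one, Units.val_one] at h4
    norm_num at h4
  have hin : ∀ Φ : GL (Fin 2) F → ℂ, IsIrrCharacter _ Φ → J Φ = (fun z => (fl mu z : ℂ)) →
      classInner (I ((GL2.data F).ind lam)) (I Φ) ≠ 0 := by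
    intro Φ hΦ hJ
    rw [inner_I (isIrr_isClassFunction hΨ) (isIrr_isClassFunction hΦ), hX Φ hJ, classInner_irr_ne hΨ hΦ (hneΨ Φ hJ),
      zero_add]
    exact one_ne_zero
  have n1 := norm_half h1 j1 hmune
  have n2 := norm_half h2 j2 hmune
  have r1 := isIrr_of_classInner_self (isCharacter_I (isIrr_isCharacter h1)) n1
  have r2 := isIrr_of_classInner_self (isCharacter_I (isIrr_isCharacter h2)) n2
  have r12 : I Ψ₁ ≠ I Ψ₂ := by
    intro h'
    have h3 : classInner (I Ψ₁) (I Ψ₂) = 0 := by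
      rw [inner_I (isIrr_isClassFunction h1) (isIrr_isClassFunction h2), classInner_irr_ne h1 h2 h12,
        X_hom j1 j2, if_neg hmune, add_zero]
    rw [← h', n1] at h3
    exact one_ne_zero h3
  have hdeg : ∀ Φ : GL (Fin 2) F → ℂ, IsIrrCharacter _ Φ → (GL2.data F).cf Φ 0 = 1 →
      (I Φ 1 = (Fintype.card F : ℂ) ^ 2 + Fintype.card F + 1 ∨
      I Φ 1 = (Fintype.card F : ℂ) * ((Fintype.card F : ℂ) ^ 2 + Fintype.card F + 1)) := by
    intro Φ hΦ hc
    rcases (deg_cf hΦ).2.1 hc with h3 | h3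
    · left; rw [I_one, h3, mul_one]
    · right; rw [I_one, h3, mul_comm]
  rcases eq_of_norm_two (isCharacter_I (isIrr_isCharacter hΨ)) hχ h ((norm_ps hlam).2.2 hf) r1 r2 r12 (hin Ψ₁ h1 j1)
    (hin Ψ₂ h2 j2) with rfl | rfl
  · exact hdeg Ψ₁ h1 c1
  · exact hdeg Ψ₂ h2 c2

/-- the cubic principal series -/
def Cubic (χ : SpecialLinearGroup (Fin 3) F → ℂ) : Prop :=
  ∃ lam : (GL2.data F).T →* ℂˣ, lam ≠ lam.comp (GL2.data F).wT ∧ fl lam ≠ (fl lam).comp sg ∧
    sw (fl lam) ≠ (sw (fl lam)).comp sg ∧ fl lam = (sw (fl lam)).comp sg ∧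
    classInner χ (I ((GL2.data F).ind lam)) ≠ 0

/-! ### The size of the field -/

omit [Fintype Fˣ] [Fintype (SpecialLinearGroup (Fin 3) F)] [Fintype (GL (Fin 2) F)] in
theorem card_units_eq : Nat.card Fˣ = Fintype.card F - 1 := by
  classical
  rw [← Fintype.card_units]
  exact @Nat.card_eq_fintype_card _ _

omit [Fintype Fˣ] [Fintype (SpecialLinearGroup (Fin 3) F)] [Fintype (GL (Fin 2) F)] in
theorem three_le_of_ne {f g : Fˣ × Fˣ →* ℂˣ} (h : f ≠ g) : 3 ≤ Fintype.card F := by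
  by_contra hcon
  have h1 := Fintype.one_lt_card (α := F)
  have h2 : Nat.card Fˣ = 1 := by rw [card_units_eq]; omega
  have h3 : Subsingleton Fˣ := (Nat.card_eq_one_iff_unique.1 h2).1
  apply h
  refine MonoidHom.ext fun z => ?_
  have h4 : z = 1 := Subsingleton.elim _ _
  rw [h4, map_one, map_one]

theorem five_le {f : Fˣ × Fˣ →* ℂˣ} (h0 : f ≠ sw f) (h1 : f ≠ f.comp sg) (h2 : sw f ≠ (sw f).comp sg)
    (h3 : f ≠ (sw f).comp sg) : 5 ≤ Fintype.card F := by
  obtain ⟨g, hg⟩ := IsCyclic.exists_generator (α := Fˣ)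
  have hf : ∀ m n : ℤ, f (g ^ m, g ^ n) = f (g, 1) ^ m * f (1, g) ^ n := by
    intro m n
    rw [← map_zpow, ← map_zpow, ← map_mul]
    congr 1
    simp
  have hα : f (g, 1) ≠ 1 := by
    intro h
    apply h2
    rw [fix_sg_iff]
    intro c
    obtain ⟨m, rfl⟩ := Subgroup.mem_zpowers_iff.1 (hg c)
    have := hf m 0
    rw [_root_.zpow_zero, _root_.zpow_zero, h, _root_.one_zpow, mul_one] at this
    exact this
  have hβ : f (1, g) ≠ 1 := by
    intro h
    apply h1
    rw [fix_sg_iff]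
    intro c
    obtain ⟨m, rfl⟩ := Subgroup.mem_zpowers_iff.1 (hg c)
    have := hf 0 m
    rw [_root_.zpow_zero, _root_.zpow_zero, h, _root_.one_zpow, mul_one] at this
    exact this
  have hαβ : f (g, 1) ≠ f (1, g) := by
    intro h
    apply h0
    refine MonoidHom.ext fun z => ?_
    obtain ⟨a, b⟩ := z
    obtain ⟨m, rfl⟩ := Subgroup.mem_zpowers_iff.1 (hg a)
    obtain ⟨n, rfl⟩ := Subgroup.mem_zpowers_iff.1 (hg b)
    rw [sw_apply, hf]
    show _ = f (g ^ n, g ^ m)
    rw [hf, h, mul_comm]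
  have hgc : g ^ (Fintype.card F - 1) = 1 := by
    rw [← card_units_eq]
    exact pow_card_eq_one'
  have hαq : f (g, 1) ^ (Fintype.card F - 1) = 1 := by
    rw [← map_pow, ← map_one f]
    congr 1
    rw [Prod.pow_mk, hgc, one_pow]
    rfl
  have hβq : f (1, g) ^ (Fintype.card F - 1) = 1 := by
    rw [← map_pow, ← map_one f]
    congr 1
    rw [Prod.pow_mk, hgc, one_pow]
    rfl
  have hc := Fintype.one_lt_card (α := F)
  by_contra hcon
  have hα' : ((f (g, 1) : ℂˣ) : ℂ) ≠ 1 := fun h => hα (Units.ext h)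
  have hβ' : ((f (1, g) : ℂˣ) : ℂ) ≠ 1 := fun h => hβ (Units.ext h)
  have hαβ' : ((f (g, 1) : ℂˣ) : ℂ) ≠ ((f (1, g) : ℂˣ) : ℂ) := fun h => hαβ (Units.ext h)
  have hαq' := congrArg Units.val hαq
  have hβq' := congrArg Units.val hβq
  simp only [Units.val_pow_eq_pow_val, Units.val_one] at hαq' hβq'
  obtain hq | hq | hq : Fintype.card F - 1 = 1 ∨ Fintype.card F - 1 = 2 ∨ Fintype.card F - 1 = 3 := by omega
  · rw [hq, pow_one] at hαq'
    exact hα' hαq'
  · rw [hq] at hαq' hβq'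
    have k1 : (((f (g, 1) : ℂˣ) : ℂ) - 1) * (((f (g, 1) : ℂˣ) : ℂ) + 1) = 0 := by linear_combination hαq'
    have k2 : (((f (1, g) : ℂˣ) : ℂ) - 1) * (((f (1, g) : ℂˣ) : ℂ) + 1) = 0 := by linear_combination hβq'
    have k3 := (mul_eq_zero.1 k1).resolve_left (sub_ne_zero.2 hα')
    have k4 := (mul_eq_zero.1 k2).resolve_left (sub_ne_zero.2 hβ')
    exact hαβ' (by linear_combination k3 - k4)
  · rw [hq] at hαq' hβq'
    have k1 : (((f (g, 1) : ℂˣ) : ℂ) - 1) * (((f (g, 1) : ℂˣ) : ℂ) ^ 2 + ((f (g, 1) : ℂˣ) : ℂ) + 1) = 0 := by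
      linear_combination hαq'
    have k2 : (((f (1, g) : ℂˣ) : ℂ) - 1) * (((f (1, g) : ℂˣ) : ℂ) ^ 2 + ((f (1, g) : ℂˣ) : ℂ) + 1) = 0 := by
      linear_combination hβq'
    have k3 := (mul_eq_zero.1 k1).resolve_left (sub_ne_zero.2 hα')
    have k4 := (mul_eq_zero.1 k2).resolve_left (sub_ne_zero.2 hβ')
    have k5 : (((f (g, 1) : ℂˣ) : ℂ) - ((f (1, g) : ℂˣ) : ℂ)) *
        (((f (g, 1) : ℂˣ) : ℂ) + ((f (1, g) : ℂˣ) : ℂ) + 1) = 0 := by linear_combination k3 - k4
    have k6 := (mul_eq_zero.1 k5).resolve_left (sub_ne_zero.2 hαβ')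
    have k7 : f (g, 1) * f (1, g) = 1 := by
      apply Units.ext
      rw [Units.val_mul, Units.val_one]
      linear_combination ((f (g, 1) : ℂˣ) : ℂ) * k6 - k3
    have k8 : f (1, g) = (f (g, 1))⁻¹ := (inv_eq_of_mul_eq_one_right k7).symm
    have k9 : f (g, 1) ^ (3 : ℤ) = 1 := by
      rw [hq] at hαq
      exact_mod_cast hαq
    apply h3
    refine MonoidHom.ext fun z => ?_
    obtain ⟨a, b⟩ := z
    obtain ⟨m, rfl⟩ := Subgroup.mem_zpowers_iff.1 (hg a)
    obtain ⟨n, rfl⟩ := Subgroup.mem_zpowers_iff.1 (hg b)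
    rw [MonoidHom.comp_apply, sg_apply, sw_apply, hf]
    show _ = f ((g ^ m * g ^ n)⁻¹, g ^ m)
    rw [← _root_.zpow_add, ← _root_.zpow_neg, hf, k8, _root_.inv_zpow, _root_.inv_zpow, ← _root_.zpow_neg, ← _root_.zpow_neg, ← _root_.zpow_add, ← _root_.zpow_add]
    have e : m + -n = (-(m + n) + -m) + 3 * m := by ring
    rw [e, _root_.zpow_add, _root_.zpow_mul, k9, _root_.one_zpow, mul_one]

/-- **The noncuspidal characters.** -/
theorem noncusp_cases {χ : SpecialLinearGroup (Fin 3) F → ℂ} (hχ : IsIrrCharacter _ χ) {Ψ : GL (Fin 2) F → ℂ}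
    (hΨ : IsIrrCharacter _ Ψ) (h : classInner χ (I Ψ) ≠ 0) :
    χ = 1 ∨
    (χ 1 = (Fintype.card F : ℂ) ^ 2 + Fintype.card F ∧ ZT χ) ∨
    (χ 1 = (Fintype.card F : ℂ) ^ 3 ∧ ZT χ) ∨
    (3 ≤ Fintype.card F ∧ χ 1 = (Fintype.card F : ℂ) ^ 2 + Fintype.card F + 1) ∨
    (3 ≤ Fintype.card F ∧ χ 1 = (Fintype.card F : ℂ) * ((Fintype.card F : ℂ) ^ 2 + Fintype.card F + 1)) ∨
    (5 ≤ Fintype.card F ∧
      χ 1 = ((Fintype.card F : ℂ) + 1) * ((Fintype.card F : ℂ) ^ 2 + Fintype.card F + 1)) ∨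
    χ 1 = ((Fintype.card F : ℂ) - 1) * ((Fintype.card F : ℂ) ^ 2 + Fintype.card F + 1) ∨
    (Cubic χ ∧ ZT χ) := by
  classical
  have hI := isCharacter_I (isIrr_isCharacter hΨ)
  rcases (GL2.data F).trichotomy hΨ with h0 | ⟨hc, lam, hlam, hj, Ψ', hΨ', hne, hc', hsum⟩ | ⟨hc, lam, hlam, rfl⟩
  · -- cuspidal
    have h1 := eq_of_norm_one hI hχ h (norm_cusp hΨ h0)
    right; right; right; right; right; right; left
    rw [h1, I_one, (deg_cf hΨ).1 h0]
    ring
  · have hJ : J Ψ = fun z => (fl lam z : ℂ) := funext fun z => hj _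
    by_cases hf : fl lam = (fl lam).comp sg
    · -- the trivial character of the torus
      have hf1 : fl lam = 1 := by
        have h1 := (fix_sg_iff _).1 hf
        have h2 := (fl_eq_iff lam).1 hlam
        ext ⟨a, b⟩
        have k1 : ((a, b) : Fˣ × Fˣ) = (a, 1) * (1, b) := by simp
        have k2 : fl lam (a, 1) = 1 := by
          rw [h2]
          exact h1 a
        rw [k1, map_mul, h1, k2]
        simp
      have hz : ZT (I Ψ) := by
        refine zt_I fun c => ?_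
        have h2 := ind_scalar (lam := lam) (fun c => by rw [hf1]; rfl) c
        refine OddOrderCharacters.PF9.CliffGen.constituent_ker ((GL2.data F).isCharacter_ind lam) hΨ ?_ h2
        rw [hsum, classInner_add_left, classInner_irr_self hΨ, classInner_irr_ne hΨ' hΨ hne.symm, add_zero]
        exact one_ne_zero
      have hzχ : ZT χ := zt_constituent hI hχ h hz
      by_cases h1 : Ψ = 1
      · subst h1
        obtain ⟨χ₀, h2, h3, -, h4⟩ := exists_perm (F := F)
        have h5 : χ = 1 ∨ χ = χ₀ := by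
          by_contra hc
          push Not at hc
          apply h
          rw [h3, classInner_add_right, classInner_irr_ne hχ isIrr_one hc.1, classInner_irr_ne hχ h2 hc.2, add_zero]
        rcases h5 with rfl | rfl
        · exact Or.inl rfl
        · exact Or.inr (Or.inl ⟨h4, hzχ⟩)
      · have hJ1 : J Ψ = fun z => (((1 : Fˣ × Fˣ →* ℂˣ) z : ℂˣ) : ℂ) := by rw [hJ, hf1]
        -- the trivial character is the other constituent
        have h2 : classInner (1 : GL (Fin 2) F → ℂ) ((GL2.data F).ind lam) ≠ 0 := by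
          have : Fintype (GL2.data F).T := Fintype.ofFinite _
          rw [(GL2.data F).classInner_ind (isIrr_isClassFunction isIrr_one)]
          have e1 : (GL2.data F).jac (1 : GL (Fin 2) F → ℂ) = fun t => ((lam t : ℂˣ) : ℂ) := by
            funext t
            obtain ⟨z, rfl⟩ := GL2.exists_tt t
            have e2 := congrFun (J_one (F := F)) z
            have e3 := DFunLike.congr_fun hf1 z
            rw [fl_apply] at e3
            rw [e3]
            exact e2
          rw [e1, inner_hom, if_pos rfl]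
          exact one_ne_zero
        have h3 : Ψ' = 1 := by
          by_contra h3
          apply h2
          rw [hsum, classInner_add_right, classInner_irr_ne isIrr_one hΨ (Ne.symm h1),
            classInner_irr_ne isIrr_one hΨ' (Ne.symm h3), add_zero]
        have h4 : Ψ 1 = (Fintype.card F : ℂ) := by
          have h5 := congrFun hsum 1
          rw [(GL2.data F).ind_one, Pi.add_apply, h3, Pi.one_apply] at h5
          linear_combination -h5
        rcases st_cases hΨ h1 hJ1 h4 hχ h with h5 | h5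
        · exact Or.inr (Or.inl ⟨h5, hzχ⟩)
        · exact Or.inr (Or.inr (Or.inl ⟨h5, hzχ⟩))
    · have h1 := eq_of_norm_one hI hχ h (norm_half hΨ hJ hf)
      rcases (deg_cf hΨ).2.1 hc with h3 | h3
      · right; right; right; left
        refine ⟨three_le_of_ne hf, ?_⟩
        rw [h1, I_one, h3, mul_one]
      · right; right; right; right; left
        refine ⟨three_le_of_ne hf, ?_⟩
        rw [h1, I_one, h3, mul_comm]
  · have hne : fl lam ≠ sw (fl lam) := fun h' => hlam ((fl_eq_iff lam).2 h')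
    have hq3 := three_le_of_ne hne
    by_cases h1 : fl lam = (fl lam).comp sg
    · rcases ps_fixed hlam h1 hχ h with h2 | h2
      · right; right; right; left; exact ⟨hq3, h2⟩
      · right; right; right; right; left; exact ⟨hq3, h2⟩
    by_cases h2 : sw (fl lam) = (sw (fl lam)).comp sg
    · have hlam' : lam.comp (GL2.data F).wT ≠ (lam.comp (GL2.data F).wT).comp (GL2.data F).wT := by
        rw [(GL2.data F).comp_wT_comp_wT]
        exact hlam.symm
      rw [← (GL2.data F).ind_comp_wT] at h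
      rw [← fl_wT'] at h2
      rcases ps_fixed hlam' h2 hχ h with h3 | h3
      · right; right; right; left; exact ⟨hq3, h3⟩
      · right; right; right; right; left; exact ⟨hq3, h3⟩
    by_cases h3 : fl lam = (sw (fl lam)).comp sg
    · right; right; right; right; right; right; right
      refine ⟨⟨lam, hlam, h1, h2, h3, h⟩, zt_constituent hI hχ h (zt_I fun c => ?_)⟩
      exact ind_scalar (fun c => cycle_scalar h3 c) c
    · have h4 := eq_of_norm_one hI hχ h ((norm_ps hlam).1 h1 h2 h3)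
      right; right; right; right; right; left
      refine ⟨five_le hne h1 h2 h3, ?_⟩
      rw [h4, I_one, (GL2.data F).ind_one]
      ring

/-- a character which is not orthogonal to the trivial character of the unipotent radical -/
theorem exists_of_sum_ne {χ : SpecialLinearGroup (Fin 3) F → ℂ} (hχ : IsCharacter _ χ)
    (h : ∑ z : F × F, χ (ur z) ≠ 0) : ∃ Ψ : GL (Fin 2) F → ℂ, IsIrrCharacter _ Ψ ∧ classInner χ (I Ψ) ≠ 0 := by
  classical
  have : Fintype (P F) := Fintype.ofFinite _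
  have : Fintype (IrrCharacter (P F)) := @Fintype.ofFinite _ finite_irr
  have : Fintype (pi : P F →* GL (Fin 2) F).ker := Fintype.ofFinite _
  have hres := Characters.Clifford.isCharacter_restrict (P F) hχ
  obtain ⟨c, hc, hc'⟩ := CharDeep.CliffordCorr.exists_nat_coeffs hres
  have h1 : ∑ u : (pi : P F →* GL (Fin 2) F).ker, (fun t : P F => χ t) u ≠ 0 := by
    rw [← Equiv.sum_comp (urE F)]
    exact h
  rw [hc] at h1
  simp only [Finset.sum_apply, Pi.smul_apply] at h1
  rw [Finset.sum_comm] at h1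
  obtain ⟨θ, -, hθ⟩ := Finset.exists_ne_zero_of_sum_ne_zero h1
  rw [← Finset.smul_sum] at hθ
  have h2 : c θ ≠ 0 := by
    intro h2
    rw [h2] at hθ
    simp at hθ
  have h3 : ∑ u : (pi : P F →* GL (Fin 2) F).ker, (θ : P F → ℂ) u ≠ 0 := fun h3 => hθ (by rw [h3, smul_zero])
  obtain ⟨θ', hθ'⟩ := Blocks.Deflate.exists_deflation (pi : P F →* GL (Fin 2) F).ker _ θ.2 h3
  let e := QuotientGroup.quotientKerEquivOfSurjective (pi : P F →* GL (Fin 2) F) pi_surj
  have h4 : (θ : P F → ℂ) = ((θ' : P F ⧸ (pi : P F →* GL (Fin 2) F).ker → ℂ) ∘ e.symm) ∘ pi := by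
    rw [hθ']
    funext t
    have h5 : e.symm (pi t) = QuotientGroup.mk t := (MulEquiv.symm_apply_eq e).2 rfl
    simp only [Function.comp_apply]
    rw [h5]
  refine ⟨(θ' : P F ⧸ (pi : P F →* GL (Fin 2) F).ker → ℂ) ∘ e.symm,
    isIrr_comp e.symm.toMonoidHom e.symm.surjective θ'.2, ?_⟩
  unfold I
  rw [OddOrderCharacters.IndRes.classInner_indFun_right (P F) _ (isCharacter_isClassFunction hχ), ← h4]
  have h5 := hc' θ
  change classInner (fun t : P F => χ t) (θ : P F → ℂ) ≠ 0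
  rw [h5]
  exact_mod_cast h2

end Cfsg.Agent.H612.Deg3
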