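import Cfsg.Agent.H612.Deg3.Gel
import Cfsg.Agent.H710.Cuspidal

/-!
# Cuspidal characters of `GL_3(q)` (helper612)

`cusp_degree` : an irreducible character of `GL_3(q)` whose sum over the unipotent radical of a maximal parabolic
subgroup vanishes has degree `(q - 1)(q² - 1)`.
-/

set_option autoImplicit false
set_option linter.unusedSectionVars false
set_option linter.unusedSimpArgs false

open Cfsg Matrix
open scoped ComplexConjugate

namespace Cfsg.Agent.H612.Deg3.Gel

open Cfsg.Agent Cfsg.Agent.Characters.Core Module Cfsg.Agent.H670.RankOne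

universe u v

theorem sum_mul_eq_zero {G : Type u} [Group G] [Finite G] {χ : G → ℂ} (hχ : IsCharacter G χ) (U : Subgroup G)
    [Fintype U] (h : ∑ u : U, χ u = 0) (x : G) : ∑ u : U, χ (x * u) = 0 := by
  obtain ⟨n, ρ, rfl⟩ := hχ
  have h1 := H710.Cuspidal.Z_eq_zero ρ U h
  have h2 : LinearMap.trace ℂ (Fin n → ℂ) (ρ x * H710.Cuspidal.Z ρ U) = 0 := by rw [h1, mul_zero, map_zero]
  rw [H710.Cuspidal.Z, Finset.mul_sum, map_sum] at h2
  rw [← h2]
  refine Finset.sum_congr rfl fun u _ => ?_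
  rw [← map_mul]
  rfl

variable {F : Type v} [Field F]

/-- an element of `GL_3` -/
noncomputable def mk3 (m : Matrix (Fin 3) (Fin 3) F) (h : m.det ≠ 0) : GL (Fin 3) F :=
  GeneralLinearGroup.mkOfDetNeZero m h

theorem coe_mk3 (m : Matrix (Fin 3) (Fin 3) F) (h : m.det ≠ 0) :
    ((mk3 m h : GL (Fin 3) F) : Matrix (Fin 3) (Fin 3) F) = m := rfl

theorem apply_eq {χ : GL (Fin 3) F → ℂ} (hχ : IsClassFunction _ χ) {x y g : GL (Fin 3) F} (h : g * x = y * g) :
    χ x = χ y := by
  have h1 : y = g * x * g⁻¹ := by rw [h]; group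
  rw [h1, hχ]

theorem apply_b {χ : GL (Fin 3) F → ℂ} (hχ : IsClassFunction _ χ) {b c : F} (h : ¬ (b = 0 ∧ c = 0)) :
    χ (u3 0 b c) = χ (u3 0 0 1) := by
  symm
  by_cases hc : c = 0
  · have hb : b ≠ 0 := fun hb => h ⟨hb, hc⟩
    subst hc
    refine apply_eq hχ (g := mk3 !![0, 1, 0; b, 0, 0; 0, 0, 1] (by rw [det_fin_three]; simpa using hb)) ?_
    apply Units.ext
    rw [Units.val_mul, Units.val_mul, coe_mk3, coe_u3, coe_u3]
    unfold U
    ext i j
    fin_cases i <;> fin_cases j <;> simp [Matrix.mul_apply, Fin.sum_univ_three, Matrix.vecMul, dotProduct]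
  · refine apply_eq hχ (g := mk3 !![c, 0, 0; b, 1, 0; 0, 0, 1] (by rw [det_fin_three]; simpa using hc)) ?_
    apply Units.ext
    rw [Units.val_mul, Units.val_mul, coe_mk3, coe_u3, coe_u3]
    unfold U
    ext i j
    fin_cases i <;> fin_cases j <;> simp [Matrix.mul_apply, Fin.sum_univ_three, Matrix.vecMul, dotProduct]

theorem apply_a {χ : GL (Fin 3) F → ℂ} (hχ : IsClassFunction _ χ) {a c : F} (h : ¬ (a = 0 ∧ c = 0)) :
    χ (u3 a 0 c) = χ (u3 0 0 1) := by
  symm
  by_cases hc : c = 0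
  · have ha : a ≠ 0 := fun ha => h ⟨ha, hc⟩
    subst hc
    refine apply_eq hχ (g := mk3 !![1, 0, 0; 0, 0, a⁻¹; 0, 1, 0] (by rw [det_fin_three]; simpa using ha)) ?_
    apply Units.ext
    rw [Units.val_mul, Units.val_mul, coe_mk3, coe_u3, coe_u3]
    unfold U
    ext i j
    fin_cases i <;> fin_cases j <;> simp [Matrix.mul_apply, Fin.sum_univ_three, Matrix.vecMul, dotProduct, ha]
  · refine apply_eq hχ (g := mk3 !![1, 0, 0; 0, 1, 0; 0, -(a / c), c⁻¹] (by rw [det_fin_three]; simpa using hc)) ?_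
    apply Units.ext
    rw [Units.val_mul, Units.val_mul, coe_mk3, coe_u3, coe_u3]
    unfold U
    ext i j
    fin_cases i <;> fin_cases j <;> simp [Matrix.mul_apply, Fin.sum_univ_three, Matrix.vecMul, dotProduct, hc]
    field_simp
    ring

theorem apply_ab {χ : GL (Fin 3) F → ℂ} (hχ : IsClassFunction _ χ) {a b c : F} (ha : a ≠ 0) (hb : b ≠ 0) :
    χ (u3 a b c) = χ (u3 1 1 0) := by
  symm
  refine apply_eq hχ (g := mk3 !![a * b, c, 0; 0, b, 0; 0, 0, 1] (by
    rw [det_fin_three]; simp [ha, hb])) ?_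
  apply Units.ext
  rw [Units.val_mul, Units.val_mul, coe_mk3, coe_u3, coe_u3]
  unfold U
  ext i j
  fin_cases i <;> fin_cases j <;> simp [Matrix.mul_apply, Fin.sum_univ_three, Matrix.vecMul, dotProduct]
  ring

/-- the unipotent radical of the stabiliser of the plane of the first two coordinates -/
def UP (F : Type v) [Field F] : Subgroup (GL (Fin 3) F) where
  carrier := {g | ∃ b c, g = u3 0 b c}
  one_mem' := ⟨0, 0, u3_zero.symm⟩
  mul_mem' := by
    rintro _ _ ⟨b, c, rfl⟩ ⟨b', c', rfl⟩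
    refine ⟨b + b', c + c', ?_⟩
    rw [u3_mul]
    congr 1 <;> ring
  inv_mem' := by
    rintro _ ⟨b, c, rfl⟩
    refine ⟨-b, -c, ?_⟩
    rw [u3_inv]
    congr 1 <;> ring

/-- the parametrisation -/
noncomputable def upE (F : Type v) [Field F] : F × F ≃ UP F :=
  Equiv.ofBijective (fun z => ⟨u3 0 z.1 z.2, _, _, rfl⟩) (by
    constructor
    · rintro ⟨b, c⟩ ⟨b', c'⟩ h
      obtain ⟨-, h2, h3⟩ := u3_inj (congrArg Subtype.val h)
      exact Prod.ext h2 h3
    · rintro ⟨_, b, c, rfl⟩
      exact ⟨(b, c), rfl⟩)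

variable [Fintype F]

theorem sum_coset {χ : GL (Fin 3) F → ℂ} (hχ : IsCharacter _ χ) (h : ∑ z : F × F, χ (u3 0 z.1 z.2) = 0) (a : F) :
    ∑ z : F × F, χ (u3 a z.1 z.2) = 0 := by
  classical
  have : Fintype (UP F) := Fintype.ofFinite _
  have h1 := sum_mul_eq_zero hχ (UP F) (by rw [← Equiv.sum_comp (upE F)]; exact h) (u3 a 0 0)
  rw [← Equiv.sum_comp (upE F)] at h1
  have h2 : ∀ z : F × F, χ (u3 a 0 0 * (upE F z : GL (Fin 3) F)) = χ (u3 a z.1 (z.2 + a * z.1)) := by
    rintro ⟨b, c⟩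
    change χ (u3 a 0 0 * u3 0 b c) = _
    rw [u3_mul]
    congr 2 <;> ring
  rw [Finset.sum_congr rfl fun z _ => h2 z, Fintype.sum_prod_type] at h1
  rw [Fintype.sum_prod_type, ← h1]
  refine Finset.sum_congr rfl fun b _ => ?_
  exact (Equiv.sum_comp (Equiv.addRight (a * b)) (fun c => χ (u3 a b c))).symm

/-- a sum over the field -/
theorem sum_split [DecidableEq F] (f : F → ℂ) (y : ℂ) (h : ∀ a, a ≠ 0 → f a = y) :
    ∑ a : F, f a = f 0 + ((Fintype.card F : ℂ) - 1) * y := by
  rw [← Finset.add_sum_erase Finset.univ f (Finset.mem_univ 0),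
    Finset.sum_congr rfl (fun a ha => h a (Finset.ne_of_mem_erase ha)), Finset.sum_const,
    Finset.card_erase_of_mem (Finset.mem_univ _), Finset.card_univ, nsmul_eq_mul,
    Nat.cast_sub Fintype.card_pos, Nat.cast_one]

theorem sum_psi_ne [DecidableEq F] : ∑ a : F, conj (psi F a) = 0 := by
  rw [← map_sum]
  have h1 := sum_psi (1 : F)
  simp only [mul_one] at h1
  rw [h1, if_neg one_ne_zero, map_zero]

/-- **Cuspidal characters of `GL_3(q)`.** -/
theorem cusp_degree [Fintype (GL (Fin 3) F)] {χ : GL (Fin 3) F → ℂ} (hχ : IsIrrCharacter _ χ)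
    (h : ∑ z : F × F, χ (u3 0 z.1 z.2) = 0) :
    χ 1 = ((Fintype.card F : ℂ) - 1) * ((Fintype.card F : ℂ) ^ 2 - 1) := by
  classical
  have hcf := isIrr_isClassFunction hχ
  have hchar := isIrr_isCharacter hχ
  set q : ℂ := (Fintype.card F : ℂ) with hq
  have hq1 : q - 1 ≠ 0 := by
    rw [sub_ne_zero, hq]
    exact_mod_cast (Fintype.one_lt_card (α := F)).ne'
  set y := χ (u3 0 0 1) with hy
  set r := χ (u3 1 1 0) with hr
  have e0 : χ (u3 0 0 0) = χ 1 := by rw [u3_zero]
  -- the sum over `c`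
  have s00 : ∑ c : F, χ (u3 0 0 c) = χ 1 + (q - 1) * y := by
    rw [sum_split (fun c => χ (u3 0 0 c)) y (fun c hc => apply_b hcf (fun h => hc h.2)), e0]
  have s0b : ∀ b : F, b ≠ 0 → ∑ c : F, χ (u3 0 b c) = q * y := by
    intro b hb
    rw [Finset.sum_congr rfl (fun c _ => apply_b hcf (fun h => hb h.1)), Finset.sum_const, Finset.card_univ,
      nsmul_eq_mul]
  have sa0 : ∀ a : F, a ≠ 0 → ∑ c : F, χ (u3 a 0 c) = q * y := by
    intro a ha
    rw [Finset.sum_congr rfl (fun c _ => apply_a hcf (fun h => ha h.1)), Finset.sum_const, Finset.card_univ,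
      nsmul_eq_mul]
  have sab : ∀ a b : F, a ≠ 0 → b ≠ 0 → ∑ c : F, χ (u3 a b c) = q * r := by
    intro a b ha hb
    rw [Finset.sum_congr rfl (fun c _ => apply_ab hcf ha hb), Finset.sum_const, Finset.card_univ,
      nsmul_eq_mul]
  -- the two equations
  have E0 : χ 1 + (q - 1) * y + (q - 1) * (q * y) = 0 := by
    rw [Fintype.sum_prod_type, sum_split (fun b => ∑ c : F, χ (u3 0 b c)) (q * y) s0b, s00] at h
    exact h
  have E1 : q * y + (q - 1) * (q * r) = 0 := by
    have h1 := sum_coset hchar h 1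
    rw [Fintype.sum_prod_type, sum_split (fun b => ∑ c : F, χ (u3 1 b c)) (q * r) (fun b hb => sab 1 b one_ne_zero hb),
      sa0 1 one_ne_zero] at h1
    exact h1
  have hq0 : q ≠ 0 := by rw [hq]; exact cardF_ne F
  have E2 : y = -((q - 1) * r) := by
    have h1 : q * (y + (q - 1) * r) = 0 := by linear_combination E1
    rcases mul_eq_zero.1 h1 with h2 | h2
    · exact absurd h2 hq0
    · linear_combination h2
  have E3 : χ 1 = (q - 1) * (q ^ 2 - 1) * r := by
    rw [E2] at E0
    linear_combination E0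
  -- the multiplicity
  have hsum : ∑ z : F × F × F, χ (u3 z.1 z.2.1 z.2.2) * conj (psi F (z.1 + z.2.1)) = q ^ 3 * r := by
    rw [Fintype.sum_prod_type]
    simp only [Fintype.sum_prod_type]
    have h1 : ∀ a b : F, ∑ c : F, χ (u3 a b c) * conj (psi F (a + b)) =
        (∑ c : F, χ (u3 a b c)) * (conj (psi F a) * conj (psi F b)) := by
      intro a b
      rw [← Finset.sum_mul, AddChar.map_add_eq_mul, map_mul]
    simp only [h1]
    have h2 : ∀ a : F, a ≠ 0 → ∑ b : F, (∑ c : F, χ (u3 a b c)) * (conj (psi F a) * conj (psi F b)) =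
        conj (psi F a) * (q * y - q * r) := by
      intro a ha
      have h3 : ∀ b : F, (∑ c : F, χ (u3 a b c)) * (conj (psi F a) * conj (psi F b)) =
          conj (psi F a) * (((if b = 0 then q * y - q * r else 0) + q * r) * conj (psi F b)) := by
        intro b
        by_cases hb : b = 0
        · subst hb
          rw [sa0 a ha, if_pos rfl]; ring
        · rw [sab a b ha hb, if_neg hb]; ring
      rw [Finset.sum_congr rfl fun b _ => h3 b, ← Finset.mul_sum]
      congr 1
      simp only [add_mul, ite_mul, zero_mul, Finset.sum_add_distrib]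
      rw [Finset.sum_ite_eq' Finset.univ (0 : F), if_pos (Finset.mem_univ _), ← Finset.mul_sum, sum_psi_ne,
        AddChar.map_zero_eq_one, map_one]
      ring
    have h4 : ∑ b : F, (∑ c : F, χ (u3 0 b c)) * (conj (psi F 0) * conj (psi F b)) =
        χ 1 + (q - 1) * y - q * y := by
      have h3 : ∀ b : F, (∑ c : F, χ (u3 0 b c)) * (conj (psi F 0) * conj (psi F b)) =
          ((if b = 0 then χ 1 + (q - 1) * y - q * y else 0) + q * y) * conj (psi F b) := by
        intro b
        rw [AddChar.map_zero_eq_one, map_one]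
        by_cases hb : b = 0
        · subst hb
          rw [s00, if_pos rfl]; ring
        · rw [s0b b hb, if_neg hb]; ring
      rw [Finset.sum_congr rfl fun b _ => h3 b]
      simp only [add_mul, ite_mul, zero_mul, Finset.sum_add_distrib]
      rw [Finset.sum_ite_eq' Finset.univ (0 : F), if_pos (Finset.mem_univ _), ← Finset.mul_sum, sum_psi_ne,
        AddChar.map_zero_eq_one, map_one]
      ring
    have h5 : ∀ a : F, ∑ b : F, (∑ c : F, χ (u3 a b c)) * (conj (psi F a) * conj (psi F b)) =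
        ((if a = 0 then χ 1 + (q - 1) * y - q * y - (q * y - q * r) else 0) + (q * y - q * r)) * conj (psi F a) := by
      intro a
      by_cases ha : a = 0
      · subst ha
        rw [h4, if_pos rfl, AddChar.map_zero_eq_one, map_one]; ring
      · rw [h2 a ha, if_neg ha]; ring
    rw [Finset.sum_congr rfl fun a _ => h5 a]
    simp only [add_mul, ite_mul, zero_mul, Finset.sum_add_distrib]
    rw [Finset.sum_ite_eq' Finset.univ (0 : F), if_pos (Finset.mem_univ _), ← Finset.mul_sum, sum_psi_ne,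
      AddChar.map_zero_eq_one, map_one, E3, E2]
    ring
  have hq3 : q ^ 3 ≠ 0 := pow_ne_zero _ hq0
  rcases gelfand_graev hχ with h1 | h1
  · exfalso
    rw [hsum] at h1
    rcases mul_eq_zero.1 h1 with h2 | h2
    · exact hq3 h2
    · rw [h2, mul_zero] at E3
      exact isIrr_apply_one_ne_zero hχ E3
  · rw [hsum] at h1
    have h2 : r = 1 := mul_left_cancel₀ hq3 (by rw [h1, mul_one])
    rw [E3, h2, mul_one]

end Cfsg.Agent.H612.Deg3.Gel
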