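import Cfsg.Agent.H670.Gelfand
import Cfsg.Agent.H670.RankOneChar

/-!
# Gelfand's trick with an anti-automorphism of the subgroup, and `GL_3` (helper612)

* `mult_le_one` : Gelfand's trick, the anti-automorphism stabilising the pair `(A, ψ)`;
* `gelfand_graev` : a nondegenerate linear character of the unitriangular group occurs at most once in an irreducible
  character of `GL_3(q)`.
-/

set_option autoImplicit false
set_option linter.unusedSectionVars false
set_option linter.unusedSimpArgs false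

open Cfsg Matrix
open scoped ComplexConjugate

namespace Cfsg.Agent.H612.Deg3.Gel

open Cfsg.Agent Cfsg.Agent.Characters.Core Module Cfsg.Agent.H670.Gelfand Cfsg.Agent.H670.RankOne

universe u v

section trick

variable {G : Type u} [Group G] [Fintype G] {A : Type v} [Group A] [Fintype A]

theorem mult_le_one (i : A →* G) (ψ : A →* ℂˣ) (τ : G → G) (σ : A ≃ A)
    (hτ : ∀ x y, τ (x * y) = τ y * τ x) (hτA : ∀ a, τ (i a) = i (σ a)) (hσ : ∀ a, ψ (σ a) = ψ a)
    (h : ∀ g : G, (∃ a b : A, τ g = i a * g * i b ∧ ψ a * ψ b = 1) ∨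
      (∃ a b : A, i a * g = g * i b ∧ ψ a ≠ ψ b))
    {χ : G → ℂ} (hχ : IsIrrCharacter G χ) :
    classInner (χ ∘ i) (fun a => (ψ a : ℂ)) = 0 ∨
      classInner (χ ∘ i) (fun a => (ψ a : ℂ)) = 1 := by
  classical
  obtain ⟨n, ρ, hρ, rfl⟩ := hχ
  set E := idem i ψ ρ with hE
  set m := LinearMap.trace ℂ (Fin n → ℂ) E with hm
  rw [← trace_idem, ← hE, ← hm]
  have hEE : E * E = E := idem_mul_idem i ψ ρ
  -- the operators `A_x = E ρ(x) E`
  set Ax : G → Module.End ℂ (Fin n → ℂ) := fun x => E * ρ x * E with hAx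
  have hprod : ∀ x y : G, Ax x * Ax y =
      (Fintype.card A : ℂ)⁻¹ • ∑ a : A, ((ψ a⁻¹ : ℂˣ) : ℂ) • Ax (x * i a * y) := by
    intro x y
    have h1 : Ax x * Ax y = E * ρ x * E * (ρ y * E) := by
      simp only [hAx]
      calc E * ρ x * E * (E * ρ y * E) = E * ρ x * (E * E) * (ρ y * E) := by noncomm_ring
        _ = E * ρ x * E * (ρ y * E) := by rw [hEE]
    rw [h1]
    have h2 : E * ρ x * E * (ρ y * E) = (Fintype.card A : ℂ)⁻¹ • ∑ a : A,
        ((ψ a⁻¹ : ℂˣ) : ℂ) • (E * ρ x * ρ (i a) * (ρ y * E)) := by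
      conv_lhs => rw [hE, idem_def i ψ ρ, ← idem_def i ψ ρ, ← hE]
      have h3 : E * ρ x * E = E * ρ x * ((Fintype.card A : ℂ)⁻¹ •
          ∑ a : A, ((ψ a⁻¹ : ℂˣ) : ℂ) • ρ (i a)) := by
        rw [← idem_def i ψ ρ]
      rw [h3, mul_smul_comm, smul_mul_assoc, Finset.mul_sum, Finset.sum_mul]
      congr 1
      refine Finset.sum_congr rfl fun a _ => ?_
      rw [mul_smul_comm, smul_mul_assoc]
    rw [h2]
    congr 1
    refine Finset.sum_congr rfl fun a _ => ?_
    congr 1
    simp only [hAx, map_mul]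
    noncomm_ring
  have hL : ∀ (a : A) (x : G), Ax (i a * x) = ((ψ a : ℂˣ) : ℂ) • Ax x := by
    intro a x
    simp only [hAx, map_mul]
    rw [← mul_assoc E, hE, idem_mul_rho, ← hE, smul_mul_assoc, smul_mul_assoc]
  have hR : ∀ (a : A) (x : G), Ax (x * i a) = ((ψ a : ℂˣ) : ℂ) • Ax x := by
    intro a x
    simp only [hAx, map_mul]
    rw [mul_assoc, mul_assoc, hE, rho_mul_idem, ← hE, mul_smul_comm, mul_smul_comm, mul_assoc]
  have hτx : ∀ x : G, Ax (τ x) = Ax x := by
    intro x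
    rcases h x with ⟨a, b, h1, h2⟩ | ⟨a, b, h1, h2⟩
    · rw [h1, hR, hL, smul_smul, ← Units.val_mul, mul_comm (ψ b), h2, Units.val_one, one_smul]
    · have h3 : Ax x = 0 := by
        have h4 : ((ψ a : ℂˣ) : ℂ) • Ax x = ((ψ b : ℂˣ) : ℂ) • Ax x := by
          rw [← hL, ← hR, h1]
        exact eq_zero_of_smul_eq (fun h6 => h2 (Units.ext h6)) h4
      have h1' : τ x * i (σ a) = i (σ b) * τ x := by
        have := congrArg τ h1
        rwa [hτ, hτ, hτA, hτA] at this
      have h3' : Ax (τ x) = 0 := by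
        have h4 : ((ψ a : ℂˣ) : ℂ) • Ax (τ x) = ((ψ b : ℂˣ) : ℂ) • Ax (τ x) := by
          rw [← hσ a, ← hσ b, ← hR, h1', hL]
        exact eq_zero_of_smul_eq (fun h6 => h2 (Units.ext h6)) h4
      rw [h3, h3']
  have hcomm : ∀ x y : G, Ax x * Ax y = Ax y * Ax x := by
    intro x y
    have e1 : Ax x * Ax y = Ax (τ x) * Ax (τ y) := by rw [hτx, hτx]
    rw [e1, hprod (τ x) (τ y), hprod y x, ← Equiv.sum_comp σ]
    congr 1
    refine Finset.sum_congr rfl fun a _ => ?_
    rw [map_inv, map_inv, hσ]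
    congr 1
    rw [← hτx (y * i a * x), hτ, hτ, hτA, ← mul_assoc]
  -- `m • A_y = tr (A_y) • E`
  by_cases hm0 : m = 0
  · left; exact hm0
  right
  have hn : (finrank ℂ (Fin n → ℂ) : ℂ) ≠ 0 := by
    have := Characters.Ito.finrank_pos_of_irreducible ρ
    exact_mod_cast this.ne'
  have hscal : ∀ y : G, Ax y = (LinearMap.trace ℂ (Fin n → ℂ) (Ax y) / m) • E := by
    intro y
    have h1 := Characters.Ito.sum_conj ρ (Ax y)
    have h2 := Characters.Ito.sum_conj ρ E
    have h3 : E * (∑ g : G, ρ g * Ax y * ρ g⁻¹) * E = Ax y * (E * (∑ g : G, ρ g * E * ρ g⁻¹) * E) := by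
      rw [Finset.mul_sum, Finset.sum_mul, Finset.mul_sum, Finset.sum_mul, Finset.mul_sum]
      refine Finset.sum_congr rfl fun g _ => ?_
      have h4 : E * (ρ g * Ax y * ρ g⁻¹) * E = Ax g * Ax y * Ax g⁻¹ := by
        simp only [hAx]
        calc E * (ρ g * (E * ρ y * E) * ρ g⁻¹) * E = E * ρ g * E * ρ y * E * ρ g⁻¹ * E := by noncomm_ring
          _ = E * ρ g * (E * E) * ρ y * (E * E) * ρ g⁻¹ * E := by rw [hEE]
          _ = _ := by noncomm_ring
      have h5 : Ax y * (E * (ρ g * E * ρ g⁻¹) * E) = Ax y * (Ax g * Ax g⁻¹) := by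
        simp only [hAx]
        calc E * ρ y * E * (E * (ρ g * E * ρ g⁻¹) * E) =
            E * ρ y * E * (E * ρ g * E * ρ g⁻¹ * E) := by noncomm_ring
          _ = E * ρ y * E * (E * ρ g * (E * E) * ρ g⁻¹ * E) := by rw [hEE]
          _ = _ := by noncomm_ring
      rw [h4, h5, hcomm g y, mul_assoc]
    rw [h1, h2] at h3
    simp only [mul_smul_comm, smul_mul_assoc, mul_one, hEE] at h3
    have h6 : Ax y * E = Ax y := by
      simp only [hAx]
      rw [mul_assoc, hEE]
    rw [h6, ← hm] at h3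
    have hG : (Fintype.card G : ℂ) ≠ 0 := Nat.cast_ne_zero.2 Fintype.card_ne_zero
    have h8 : LinearMap.trace ℂ (Fin n → ℂ) (Ax y) • E = m • Ax y := by
      have h9 := congrArg (fun X => ((finrank ℂ (Fin n → ℂ) : ℂ) / (Fintype.card G : ℂ)) • X) h3
      simp only [smul_smul] at h9
      have e1 : (finrank ℂ (Fin n → ℂ) : ℂ) / (Fintype.card G : ℂ) *
          ((Fintype.card G : ℂ) * LinearMap.trace ℂ (Fin n → ℂ) (Ax y) / (finrank ℂ (Fin n → ℂ) : ℂ)) =
          LinearMap.trace ℂ (Fin n → ℂ) (Ax y) := by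
        field_simp
      have e2 : (finrank ℂ (Fin n → ℂ) : ℂ) / (Fintype.card G : ℂ) *
          ((Fintype.card G : ℂ) * m / (finrank ℂ (Fin n → ℂ) : ℂ)) = m := by
        field_simp
      rw [e1, e2] at h9
      exact h9
    rw [div_eq_inv_mul, mul_smul, h8, smul_smul, inv_mul_cancel₀ hm0, one_smul]
  -- a nonzero vector of the range
  have hE0 : E ≠ 0 := by
    intro h0
    apply hm0
    rw [hm, h0, map_zero]
  obtain ⟨v, hv⟩ : ∃ v, E v ≠ 0 := by
    by_contra hcon
    push Not at hcon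
    exact hE0 (LinearMap.ext hcon)
  have hEv : E (E v) = E v := by
    have := congrArg (fun X : Module.End ℂ (Fin n → ℂ) => X v) hEE
    exact this
  let S : Subrepresentation ρ :=
    { toSubmodule := ⨅ g : G, (Submodule.span ℂ {E v}).comap (E * ρ g)
      apply_mem_toSubmodule := by
        intro h w hw
        rw [Submodule.mem_iInf] at hw ⊢
        intro g
        have h1 := hw (g * h)
        rw [Submodule.mem_comap] at h1 ⊢
        rw [map_mul] at h1
        exact h1 }
  have hvS : E v ∈ S.toSubmodule := by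
    show E v ∈ ⨅ g : G, (Submodule.span ℂ {E v}).comap (E * ρ g)
    rw [Submodule.mem_iInf]
    intro g
    rw [Submodule.mem_comap]
    have h1 : (E * ρ g) (E v) = (Ax g) v := rfl
    rw [h1, hscal g]
    exact Submodule.smul_mem _ _ (Submodule.mem_span_singleton_self _)
  have hSne : S ≠ ⊥ := by
    intro h0
    rw [h0] at hvS
    exact hv ((Submodule.mem_bot ℂ).1 hvS)
  have hStop : S = ⊤ := (hρ.eq_bot_or_eq_top S).resolve_left hSne
  have hrange : ∀ w, E w ∈ Submodule.span ℂ {E v} := by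
    intro w
    have hw : w ∈ S.toSubmodule := by
      rw [hStop]
      exact Submodule.mem_top
    have h1 : w ∈ ⨅ g : G, (Submodule.span ℂ {E v}).comap (E * ρ g) := hw
    rw [Submodule.mem_iInf] at h1
    have h2 := h1 1
    rw [Submodule.mem_comap, map_one, mul_one] at h2
    exact h2
  have hproj : LinearMap.IsProj (Submodule.span ℂ {E v}) E :=
    ⟨hrange, by
      intro w hw
      obtain ⟨c, rfl⟩ := Submodule.mem_span_singleton.1 hw
      rw [map_smul, hEv]⟩
  rw [hm, hproj.trace, finrank_span_singleton hv, Nat.cast_one]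


end trick

/-! ### Unitriangular matrices of size three -/

section gl3

variable {F : Type v} [Field F]

/-- the unitriangular matrices -/
def U (a b c : F) : Matrix (Fin 3) (Fin 3) F := !![1, a, c; 0, 1, b; 0, 0, 1]

theorem U_mul (a b c a' b' c' : F) : U a b c * U a' b' c' = U (a + a') (b + b') (c + c' + a * b') := by
  unfold U
  ext i j
  fin_cases i <;> fin_cases j <;> simp [Matrix.mul_apply, Fin.sum_univ_three, Matrix.vecMul, dotProduct] <;> ring

theorem U_zero : U (0 : F) 0 0 = 1 := by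
  unfold U
  ext i j
  fin_cases i <;> fin_cases j <;> simp

/-- the anti-transpose -/
def T (m : Matrix (Fin 3) (Fin 3) F) : Matrix (Fin 3) (Fin 3) F := m.transpose.submatrix Fin.rev Fin.rev

theorem T_mul (m n : Matrix (Fin 3) (Fin 3) F) : T (m * n) = T n * T m := by
  unfold T
  rw [Matrix.transpose_mul]
  exact (Matrix.submatrix_mul_equiv nᵀ mᵀ Fin.rev Fin.revPerm Fin.rev).symm

theorem T_of (a b c d e f g h k : F) : T !![a, b, c; d, e, f; g, h, k] = !![k, f, c; h, e, b; g, d, a] := by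
  unfold T
  ext i j
  fin_cases i <;> fin_cases j <;> rfl

theorem T_one : T (1 : Matrix (Fin 3) (Fin 3) F) = 1 := by
  rw [← U_zero, U, T_of]

theorem T_U (a b c : F) : T (U a b c) = U b a c := T_of _ _ _ _ _ _ _ _ _

/-- unitriangular, with given sum of the entries next to the diagonal -/
def IsU (A : Matrix (Fin 3) (Fin 3) F) (s : F) : Prop := ∃ a b c : F, A = U a b c ∧ a + b = s

theorem IsU.mul {A B : Matrix (Fin 3) (Fin 3) F} {s t : F} (hA : IsU A s) (hB : IsU B t) : IsU (A * B) (s + t) := by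
  obtain ⟨a, b, c, rfl, rfl⟩ := hA
  obtain ⟨a', b', c', rfl, rfl⟩ := hB
  exact ⟨_, _, _, U_mul _ _ _ _ _ _, by ring⟩

theorem IsU.exists_inv {A : Matrix (Fin 3) (Fin 3) F} {s : F} (hA : IsU A s) :
    ∃ B, IsU B (-s) ∧ A * B = 1 ∧ B * A = 1 := by
  obtain ⟨a, b, c, rfl, rfl⟩ := hA
  refine ⟨U (-a) (-b) (a * b - c), ⟨_, _, _, rfl, by ring⟩, ?_, ?_⟩
  · rw [U_mul, ← U_zero]
    congr 1 <;> ring
  · rw [U_mul, ← U_zero]
    congr 1 <;> ring

theorem IsU.T {A : Matrix (Fin 3) (Fin 3) F} {s : F} (hA : IsU A s) : IsU (Gel.T A) s := by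
  obtain ⟨a, b, c, rfl, rfl⟩ := hA
  exact ⟨_, _, _, T_U _ _ _, by ring⟩

theorem isU_one : IsU (1 : Matrix (Fin 3) (Fin 3) F) 0 := ⟨0, 0, 0, U_zero.symm, by ring⟩

/-- the alternative of Gelfand's trick -/
def Good (m : Matrix (Fin 3) (Fin 3) F) : Prop :=
  (∃ A B s, IsU A s ∧ IsU B (-s) ∧ Gel.T m = A * m * B) ∨ (∀ t, ∃ A B s, IsU A (s + t) ∧ IsU B s ∧ A * m = m * B)

theorem Good.of_mul {m C D : Matrix (Fin 3) (Fin 3) F} {x y : F} (hC : IsU C x) (hD : IsU D y)
    (h : Good (C * m * D)) : Good m := by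
  obtain ⟨C', hC', c1, c2⟩ := hC.exists_inv
  obtain ⟨D', hD', d1, d2⟩ := hD.exists_inv
  obtain ⟨TC', hTC', tc1, tc2⟩ := hC.T.exists_inv
  obtain ⟨TD', hTD', td1, td2⟩ := hD.T.exists_inv
  rcases h with ⟨A, B, s, hA, hB, h⟩ | h
  · left
    refine ⟨TD' * A * C, D * B * TC', -y + s + x, (hTD'.mul hA).mul hC, ?_, ?_⟩
    · have e : -(-y + s + x) = y + -s + -x := by ring
      rw [e]
      exact (hD.mul hB).mul hTC'
    · rw [T_mul, T_mul] at h
      calc Gel.T m = (TD' * Gel.T D) * Gel.T m * (Gel.T C * TC') := by rw [td2, tc1]; simp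
        _ = TD' * (Gel.T D * (Gel.T m * Gel.T C)) * TC' := by noncomm_ring
        _ = TD' * (A * (C * m * D) * B) * TC' := by rw [h]
        _ = _ := by noncomm_ring
  · right
    intro t
    obtain ⟨A, B, s, hA, hB, h⟩ := h t
    refine ⟨C' * A * C, D * B * D', s, ?_, ?_, ?_⟩
    · have e : s + t = -x + (s + t) + x := by ring
      rw [e]
      exact (hC'.mul hA).mul hC
    · have e : s = y + s + -y := by ring
      rw [e]
      exact (hD.mul hB).mul hD'
    · calc C' * A * C * m = C' * (A * (C * m * D)) * D' + C' * A * C * m * (1 - D * D') := by noncomm_ring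
        _ = C' * ((C * m * D) * B) * D' + C' * A * C * m * (1 - D * D') := by rw [h]
        _ = (C' * C) * m * (D * B * D') := by rw [d1]; noncomm_ring
        _ = _ := by rw [c2]; noncomm_ring

theorem Good.of_T {m : Matrix (Fin 3) (Fin 3) F} (h : Gel.T m = m) : Good m :=
  Or.inl ⟨1, 1, 0, isU_one, by rw [neg_zero]; exact isU_one, by rw [h]; simp⟩

/-! the monomial matrices -/

theorem good_w0 (a b c : F) : Good !![0, 0, a; 0, b, 0; c, 0, 0] := Good.of_T (T_of _ _ _ _ _ _ _ _ _)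

theorem good_w1 {p s g : F} (hs : s ≠ 0) : Good !![0, p, 0; 0, 0, s; g, 0, 0] := by
  by_cases h : p = s
  · subst h
    exact Good.of_T (T_of _ _ _ _ _ _ _ _ _)
  · right
    intro t
    have h1 : p - s ≠ 0 := sub_ne_zero.2 h
    -- `y (p / s - 1) = t`
    refine ⟨U (t * s / (p - s) * (p / s)) 0 0, U 0 (t * s / (p - s)) 0, t * s / (p - s), ⟨_, _, _, rfl, ?_⟩,
      ⟨_, _, _, rfl, by ring⟩, ?_⟩
    · field_simp
      ring
    · unfold U
      ext i j
      fin_cases i <;> fin_cases j <;> simp [Matrix.mul_apply, Fin.sum_univ_three, Matrix.vecMul, dotProduct]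
      field_simp

theorem good_w2 {q d h : F} (hh : h ≠ 0) : Good !![0, 0, q; d, 0, 0; 0, h, 0] := by
  by_cases h' : d = h
  · subst h'
    exact Good.of_T (T_of _ _ _ _ _ _ _ _ _)
  · right
    intro t
    have h1 : d - h ≠ 0 := sub_ne_zero.2 h'
    refine ⟨U 0 (t * h / (d - h) * (d / h)) 0, U (t * h / (d - h)) 0 0, t * h / (d - h), ⟨_, _, _, rfl, ?_⟩,
      ⟨_, _, _, rfl, by ring⟩, ?_⟩
    · field_simp
      ring
    · unfold U
      ext i j
      fin_cases i <;> fin_cases j <;> simp [Matrix.mul_apply, Fin.sum_univ_three, Matrix.vecMul, dotProduct]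
      field_simp

theorem good_w3 {p d k : F} (hk : k ≠ 0) : Good !![0, p, 0; d, 0, 0; 0, 0, k] := by
  right
  intro t
  refine ⟨U 0 0 (-t * p / k), U 0 (-t) 0, -t, ⟨_, _, _, rfl, by ring⟩, ⟨_, _, _, rfl, by ring⟩, ?_⟩
  unfold U
  ext i j
  fin_cases i <;> fin_cases j <;> simp [Matrix.mul_apply, Fin.sum_univ_three, Matrix.vecMul, dotProduct]
  field_simp

theorem good_w4 {a f h : F} (hh : h ≠ 0) : Good !![a, 0, 0; 0, 0, f; 0, h, 0] := by
  right
  intro t
  refine ⟨U 0 0 (-t * a / h), U (-t) 0 0, -t, ⟨_, _, _, rfl, by ring⟩, ⟨_, _, _, rfl, by ring⟩, ?_⟩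
  unfold U
  ext i j
  fin_cases i <;> fin_cases j <;> simp [Matrix.mul_apply, Fin.sum_univ_three, Matrix.vecMul, dotProduct]
  field_simp

theorem good_diag {a e k : F} (he : e ≠ 0) (hk : k ≠ 0) : Good !![a, 0, 0; 0, e, 0; 0, 0, k] := by
  by_cases h1 : a = e
  · by_cases h2 : e = k
    · subst h1; subst h2
      exact Good.of_T (T_of _ _ _ _ _ _ _ _ _)
    · right
      intro t
      have h3 : e - k ≠ 0 := sub_ne_zero.2 h2
      refine ⟨U 0 (t * k / (e - k) * (e / k)) 0, U 0 (t * k / (e - k)) 0, t * k / (e - k), ⟨_, _, _, rfl, ?_⟩,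
        ⟨_, _, _, rfl, by ring⟩, ?_⟩
      · field_simp
        ring
      · unfold U
        ext i j
        fin_cases i <;> fin_cases j <;> simp [Matrix.mul_apply, Fin.sum_univ_three, Matrix.vecMul, dotProduct]
        field_simp
  · right
    intro t
    have h3 : a - e ≠ 0 := sub_ne_zero.2 h1
    refine ⟨U (t * e / (a - e) * (a / e)) 0 0, U (t * e / (a - e)) 0 0, t * e / (a - e), ⟨_, _, _, rfl, ?_⟩,
      ⟨_, _, _, rfl, by ring⟩, ?_⟩
    · field_simp
      ring
    · unfold U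
      ext i j
      fin_cases i <;> fin_cases j <;> simp [Matrix.mul_apply, Fin.sum_univ_three, Matrix.vecMul, dotProduct]
      field_simp

theorem isU_U (a b c : F) : IsU (U a b c) (a + b) := ⟨a, b, c, rfl, rfl⟩

theorem good_red1 {p q r s g : F} (h : g * (p * s - q * r) ≠ 0) : Good !![0, p, q; 0, r, s; g, 0, 0] := by
  by_cases hr : r = 0
  · subst hr
    have hp : p ≠ 0 := by rintro rfl; simp at h
    have hs : s ≠ 0 := by rintro rfl; simp at h
    have e : U 0 0 0 * !![0, p, q; 0, 0, s; g, 0, 0] * U 0 (-(q / p)) 0 = !![0, p, 0; 0, 0, s; g, 0, 0] := by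
      unfold U
      ext i j
      fin_cases i <;> fin_cases j <;> simp [Matrix.mul_apply, Fin.sum_univ_three, Matrix.vecMul, dotProduct]
      field_simp
      ring
    exact Good.of_mul (isU_U _ _ _) (isU_U _ _ _) (e ▸ good_w1 hs)
  · have e : U (-(p / r)) 0 0 * !![0, p, q; 0, r, s; g, 0, 0] * U 0 (-(s / r)) 0 =
        !![0, 0, q - p * s / r; 0, r, 0; g, 0, 0] := by
      unfold U
      ext i j
      fin_cases i <;> fin_cases j <;> simp [Matrix.mul_apply, Fin.sum_univ_three, Matrix.vecMul, dotProduct] <;>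
        field_simp <;> ring
    exact Good.of_mul (isU_U _ _ _) (isU_U _ _ _) (e ▸ good_w0 _ _ _)

theorem good_red2 {p q d h k : F} (hd : d * (p * k - q * h) ≠ 0) : Good !![0, p, q; d, 0, 0; 0, h, k] := by
  by_cases hh : h = 0
  · subst hh
    have hk : k ≠ 0 := by rintro rfl; simp at hd
    have e : U 0 0 (-(q / k)) * !![0, p, q; d, 0, 0; 0, 0, k] * U 0 0 0 = !![0, p, 0; d, 0, 0; 0, 0, k] := by
      unfold U
      ext i j
      fin_cases i <;> fin_cases j <;> simp [Matrix.mul_apply, Fin.sum_univ_three, Matrix.vecMul, dotProduct]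
      field_simp
      ring
    exact Good.of_mul (isU_U _ _ _) (isU_U _ _ _) (e ▸ good_w3 hk)
  · have e : U 0 0 (-(p / h)) * !![0, p, q; d, 0, 0; 0, h, k] * U 0 (-(k / h)) 0 =
        !![0, 0, q - p * k / h; d, 0, 0; 0, h, 0] := by
      unfold U
      ext i j
      fin_cases i <;> fin_cases j <;> simp [Matrix.mul_apply, Fin.sum_univ_three, Matrix.vecMul, dotProduct] <;>
        field_simp <;> ring
    exact Good.of_mul (isU_U _ _ _) (isU_U _ _ _) (e ▸ good_w2 hh)

theorem good_red3 {a e f h k : F} (hd : a * (e * k - f * h) ≠ 0) : Good !![a, 0, 0; 0, e, f; 0, h, k] := by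
  by_cases hh : h = 0
  · subst hh
    have hk : k ≠ 0 := by rintro rfl; simp at hd
    have he : e ≠ 0 := by rintro rfl; simp at hd
    have e' : U 0 (-(f / k)) 0 * !![a, 0, 0; 0, e, f; 0, 0, k] * U 0 0 0 = !![a, 0, 0; 0, e, 0; 0, 0, k] := by
      unfold U
      ext i j
      fin_cases i <;> fin_cases j <;> simp [Matrix.mul_apply, Fin.sum_univ_three, Matrix.vecMul, dotProduct]
      field_simp
      ring
    exact Good.of_mul (isU_U _ _ _) (isU_U _ _ _) (e' ▸ good_diag he hk)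
  · have e' : U 0 (-(e / h)) 0 * !![a, 0, 0; 0, e, f; 0, h, k] * U 0 (-(k / h)) 0 =
        !![a, 0, 0; 0, 0, f - e * k / h; 0, h, 0] := by
      unfold U
      ext i j
      fin_cases i <;> fin_cases j <;> simp [Matrix.mul_apply, Fin.sum_univ_three, Matrix.vecMul, dotProduct] <;>
        field_simp <;> ring
    exact Good.of_mul (isU_U _ _ _) (isU_U _ _ _) (e' ▸ good_w4 hh)

theorem good_of {a b c d e f g h k : F} (hdet : a * e * k - a * f * h - b * d * k + b * f * g + c * d * h - c * e * g ≠ 0) :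
    Good !![a, b, c; d, e, f; g, h, k] := by
  by_cases hg : g = 0
  · subst hg
    by_cases hd : d = 0
    · subst hd
      have ha : a ≠ 0 := by rintro rfl; simp at hdet
      have e' : U 0 0 0 * !![a, b, c; 0, e, f; 0, h, k] * U (-(b / a)) 0 (-(c / a)) =
          !![a, 0, 0; 0, e, f; 0, h, k] := by
        unfold U
        ext i j
        fin_cases i <;> fin_cases j <;> simp [Matrix.mul_apply, Fin.sum_univ_three, Matrix.vecMul, dotProduct] <;>
          field_simp <;> ring
      refine Good.of_mul (isU_U _ _ _) (isU_U _ _ _) (e' ▸ good_red3 ?_)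
      intro h0
      apply hdet
      linear_combination h0
    · have e' : U (-(a / d)) 0 0 * !![a, b, c; d, e, f; 0, h, k] * U (-(e / d)) 0 (-(f / d)) =
          !![0, b - a * e / d, c - a * f / d; d, 0, 0; 0, h, k] := by
        unfold U
        ext i j
        fin_cases i <;> fin_cases j <;> simp [Matrix.mul_apply, Fin.sum_univ_three, Matrix.vecMul, dotProduct] <;>
          field_simp <;> ring
      refine Good.of_mul (isU_U _ _ _) (isU_U _ _ _) (e' ▸ good_red2 ?_)
      intro h0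
      apply hdet
      have h1 : d * ((b - a * e / d) * k - (c - a * f / d) * h) = b * d * k - a * e * k - c * d * h + a * f * h := by
        field_simp
        ring
      rw [h1] at h0
      linear_combination -h0
  · have e' : U 0 (-(d / g)) (-(a / g)) * !![a, b, c; d, e, f; g, h, k] * U (-(h / g)) 0 (-(k / g)) =
        !![0, b - a * h / g, c - a * k / g; 0, e - d * h / g, f - d * k / g; g, 0, 0] := by
      unfold U
      ext i j
      fin_cases i <;> fin_cases j <;> simp [Matrix.mul_apply, Fin.sum_univ_three, Matrix.vecMul, dotProduct] <;>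
        field_simp <;> ring
    refine Good.of_mul (isU_U _ _ _) (isU_U _ _ _) (e' ▸ good_red1 ?_)
    intro h0
    apply hdet
    have h1 : g * ((b - a * h / g) * (f - d * k / g) - (c - a * k / g) * (e - d * h / g)) =
        a * e * k - a * f * h - b * d * k + b * f * g + c * d * h - c * e * g := by
      field_simp
      ring
    rw [h1] at h0
    exact h0

theorem good_all (m : Matrix (Fin 3) (Fin 3) F) (h : m.det ≠ 0) : Good m := by
  rw [Matrix.det_fin_three] at h
  have e : m = !![m 0 0, m 0 1, m 0 2; m 1 0, m 1 1, m 1 2; m 2 0, m 2 1, m 2 2] := by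
    ext i j
    fin_cases i <;> fin_cases j <;> rfl
  rw [e]
  exact good_of h

/-! ### The unitriangular group -/

/-- the unitriangular element of `GL_3` -/
noncomputable def u3 (a b c : F) : GL (Fin 3) F :=
  ⟨U a b c, U (-a) (-b) (a * b - c), by rw [U_mul, ← U_zero]; congr 1 <;> ring,
    by rw [U_mul, ← U_zero]; congr 1 <;> ring⟩

theorem coe_u3 (a b c : F) : ((u3 a b c : GL (Fin 3) F) : Matrix (Fin 3) (Fin 3) F) = U a b c := rfl

theorem u3_mul (a b c a' b' c' : F) : u3 a b c * u3 a' b' c' = u3 (a + a') (b + b') (c + c' + a * b') :=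
  Units.ext (U_mul _ _ _ _ _ _)

theorem u3_zero : (u3 (0 : F) 0 0 : GL (Fin 3) F) = 1 := Units.ext U_zero

theorem u3_inv (a b c : F) : (u3 a b c)⁻¹ = u3 (-a) (-b) (a * b - c) := by
  rw [inv_eq_iff_mul_eq_one, u3_mul, ← u3_zero]
  congr 1 <;> ring

theorem u3_inj {a b c a' b' c' : F} (h : u3 a b c = u3 a' b' c') : a = a' ∧ b = b' ∧ c = c' := by
  have h1 : U a b c = U a' b' c' := congrArg Units.val h
  unfold U at h1
  have h01 := congrFun (congrFun h1 0) 1
  have h12 := congrFun (congrFun h1 1) 2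
  have h02 := congrFun (congrFun h1 0) 2
  simp at h01 h12 h02
  exact ⟨h01, h12, h02⟩

/-- the unitriangular group -/
def UU (F : Type v) [Field F] : Subgroup (GL (Fin 3) F) where
  carrier := {g | ∃ a b c, g = u3 a b c}
  one_mem' := ⟨0, 0, 0, u3_zero.symm⟩
  mul_mem' := by
    rintro _ _ ⟨a, b, c, rfl⟩ ⟨a', b', c', rfl⟩
    exact ⟨_, _, _, u3_mul _ _ _ _ _ _⟩
  inv_mem' := by
    rintro _ ⟨a, b, c, rfl⟩
    exact ⟨_, _, _, u3_inv _ _ _⟩

theorem u3_mem (a b c : F) : u3 a b c ∈ UU F := ⟨a, b, c, rfl⟩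

/-- the sum of the entries next to the diagonal -/
def sm : UU F →* Multiplicative F where
  toFun g := Multiplicative.ofAdd (((g : GL (Fin 3) F) : Matrix (Fin 3) (Fin 3) F) 0 1 +
    ((g : GL (Fin 3) F) : Matrix (Fin 3) (Fin 3) F) 1 2)
  map_one' := by simp
  map_mul' := by
    rintro ⟨_, a, b, c, rfl⟩ ⟨_, a', b', c', rfl⟩
    rw [← ofAdd_add]
    congr 1
    change ((u3 a b c * u3 a' b' c' : GL (Fin 3) F) : Matrix (Fin 3) (Fin 3) F) 0 1 +
      ((u3 a b c * u3 a' b' c' : GL (Fin 3) F) : Matrix (Fin 3) (Fin 3) F) 1 2 = (a + b) + (a' + b')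
    rw [u3_mul]
    change (a + a') + (b + b') = _
    ring

theorem sm_u3 (a b c : F) : sm ⟨u3 a b c, u3_mem a b c⟩ = Multiplicative.ofAdd (a + b) := rfl

/-- the anti-automorphism -/
def tau (g : GL (Fin 3) F) : GL (Fin 3) F :=
  ⟨Gel.T (g : Matrix (Fin 3) (Fin 3) F), Gel.T ((g⁻¹ : GL (Fin 3) F) : Matrix (Fin 3) (Fin 3) F), by
    rw [← T_mul, ← Units.val_mul, inv_mul_cancel, Units.val_one, T_one], by
    rw [← T_mul, ← Units.val_mul, mul_inv_cancel, Units.val_one, T_one]⟩

theorem coe_tau (g : GL (Fin 3) F) : ((tau g : GL (Fin 3) F) : Matrix (Fin 3) (Fin 3) F) =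
    Gel.T (g : Matrix (Fin 3) (Fin 3) F) := rfl

theorem tau_mul (g h : GL (Fin 3) F) : tau (g * h) = tau h * tau g := Units.ext (T_mul _ _)

theorem tau_u3 (a b c : F) : tau (u3 a b c) = u3 b a c := Units.ext (T_U _ _ _)

/-- the anti-automorphism on the unitriangular group -/
def sig : UU F ≃ UU F where
  toFun g := ⟨tau g, by obtain ⟨_, a, b, c, rfl⟩ := g; rw [tau_u3]; exact u3_mem _ _ _⟩
  invFun g := ⟨tau g, by obtain ⟨_, a, b, c, rfl⟩ := g; rw [tau_u3]; exact u3_mem _ _ _⟩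
  left_inv := by
    rintro ⟨_, a, b, c, rfl⟩
    apply Subtype.ext
    change tau (tau (u3 a b c)) = _
    rw [tau_u3, tau_u3]
  right_inv := by
    rintro ⟨_, a, b, c, rfl⟩
    apply Subtype.ext
    change tau (tau (u3 a b c)) = _
    rw [tau_u3, tau_u3]

theorem sm_sig (g : UU F) : sm (sig g) = sm g := by
  obtain ⟨_, a, b, c, rfl⟩ := g
  have e : sig ⟨u3 a b c, u3_mem a b c⟩ = ⟨u3 b a c, u3_mem b a c⟩ := Subtype.ext (tau_u3 _ _ _)
  rw [e, sm_u3, sm_u3, add_comm]

theorem isU_iff {A : Matrix (Fin 3) (Fin 3) F} {s : F} (h : IsU A s) :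
    ∃ g : UU F, ((g : GL (Fin 3) F) : Matrix (Fin 3) (Fin 3) F) = A ∧ sm g = Multiplicative.ofAdd s := by
  obtain ⟨a, b, c, rfl, rfl⟩ := h
  exact ⟨⟨u3 a b c, u3_mem a b c⟩, rfl, rfl⟩

/-- the parametrisation of the unitriangular group -/
noncomputable def uE (F : Type v) [Field F] : F × F × F ≃ UU F :=
  Equiv.ofBijective (fun z => ⟨u3 z.1 z.2.1 z.2.2, u3_mem _ _ _⟩) (by
    constructor
    · rintro ⟨a, b, c⟩ ⟨a', b', c'⟩ h
      obtain ⟨h1, h2, h3⟩ := u3_inj (congrArg Subtype.val h)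
      exact Prod.ext h1 (Prod.ext h2 h3)
    · rintro ⟨_, a, b, c, rfl⟩
      exact ⟨(a, b, c), rfl⟩)

variable [Fintype F]

/-- **The nondegenerate characters occur at most once.** -/
theorem gelfand_graev [Fintype (GL (Fin 3) F)] {χ : GL (Fin 3) F → ℂ} (hχ : IsIrrCharacter _ χ) :
    ∑ z : F × F × F, χ (u3 z.1 z.2.1 z.2.2) * conj (psi F (z.1 + z.2.1)) = 0 ∨
      ∑ z : F × F × F, χ (u3 z.1 z.2.1 z.2.2) * conj (psi F (z.1 + z.2.1)) = (Fintype.card F : ℂ) ^ 3 := by
  classical
  have : Fintype (UU F) := Fintype.ofFinite _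
  let ψ : UU F →* ℂˣ := (psiHom (1 : F)).comp sm
  have hψ : ∀ g, (ψ g : ℂ) = psi F (Multiplicative.toAdd (sm g)) := by
    intro g
    change ((psiHom (1 : F) (sm g) : ℂˣ) : ℂ) = _
    rw [psiHom_apply, mul_one]
  -- a value different from one
  obtain ⟨t, ht⟩ : ∃ t : F, psi F t ≠ 1 := by
    by_contra hc
    push Not at hc
    have h1 := sum_psi (1 : F)
    simp only [mul_one, hc] at h1
    rw [if_neg one_ne_zero, Finset.sum_const, Finset.card_univ, nsmul_eq_mul, mul_one] at h1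
    exact cardF_ne F h1
  have h := mult_le_one (UU F).subtype ψ tau sig tau_mul (fun a => rfl) (fun a => by
      apply Units.ext
      rw [hψ, hψ, sm_sig]) (by
    intro g
    have hdet : ((g : GL (Fin 3) F) : Matrix (Fin 3) (Fin 3) F).det ≠ 0 :=
      ((Matrix.isUnit_iff_isUnit_det _).1 g.isUnit).ne_zero
    rcases good_all _ hdet with ⟨A, B, s, hA, hB, h⟩ | h
    · left
      obtain ⟨a, rfl, ha⟩ := isU_iff hA
      obtain ⟨b, rfl, hb⟩ := isU_iff hB
      refine ⟨a, b, Units.ext h, ?_⟩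
      apply Units.ext
      rw [Units.val_mul, hψ, hψ, ha, hb, toAdd_ofAdd, toAdd_ofAdd, ← AddChar.map_add_eq_mul, add_neg_cancel,
        AddChar.map_zero_eq_one, Units.val_one]
    · right
      obtain ⟨A, B, s, hA, hB, h⟩ := h t
      obtain ⟨a, rfl, ha⟩ := isU_iff hA
      obtain ⟨b, rfl, hb⟩ := isU_iff hB
      refine ⟨a, b, Units.ext h, ?_⟩
      intro h1
      apply ht
      have h2 := congrArg Units.val h1
      rw [hψ, hψ, ha, hb, toAdd_ofAdd, toAdd_ofAdd, AddChar.map_add_eq_mul] at h2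
      have h3 : psi F s ≠ 0 := by
        intro h3
        have h4 : psi F (s + -s) = 0 := by rw [AddChar.map_add_eq_mul, h3, zero_mul]
        rw [add_neg_cancel, AddChar.map_zero_eq_one] at h4
        exact one_ne_zero h4
      exact mul_left_cancel₀ h3 (by rw [h2, mul_one])) hχ
  have e : classInner (χ ∘ (UU F).subtype) (fun a => (ψ a : ℂ)) = ((Fintype.card F : ℂ) ^ 3)⁻¹ *
      ∑ z : F × F × F, χ (u3 z.1 z.2.1 z.2.2) * conj (psi F (z.1 + z.2.1)) := by
    rw [classInner_def, ← Nat.card_congr (uE F), Nat.card_eq_fintype_card, Fintype.card_prod, Fintype.card_prod,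
      ← Equiv.sum_comp (uE F)]
    congr 1
    · push_cast
      ring
    · refine Finset.sum_congr rfl fun z _ => ?_
      rw [hψ]
      rfl
  have hq : (Fintype.card F : ℂ) ^ 3 ≠ 0 := pow_ne_zero _ (cardF_ne F)
  rw [e] at h
  rcases h with h | h
  · left
    rcases mul_eq_zero.1 h with h1 | h1
    · exact absurd (inv_eq_zero.1 h1) hq
    · exact h1
  · right
    rwa [inv_mul_eq_iff_eq_mul₀ hq, mul_one] at h

end gl3

end Cfsg.Agent.H612.Deg3.Gel
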