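import Cfsg.Agent.H612.Deg3.Par
import Cfsg.Agent.OddOrderCharacters.PF9.CliffGen
import Cfsg.Agent.HKS.Pair
import Cfsg.Agent.S0242

/-!
# The noncuspidal characters of `SL_3(q)` (helper612)
-/

set_option autoImplicit false
set_option linter.unusedSectionVars false
set_option linter.unusedSimpArgs false

open scoped ComplexConjugate
open Cfsg Matrix

namespace Cfsg.Agent.H612.Deg3

open Cfsg.Agent.Characters Cfsg.Agent.Characters.Core Cfsg.Agent.OddOrderCharacters.Clifford Cfsg.Agent.H53.HC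
  Cfsg.Agent.H627.Gow Cfsg.Agent.H670 Cfsg.Agent.H670.RankOne

universe u v

/-! ### Generalities -/

theorem inner_hom {A : Type*} [Group A] [Fintype A] (f g : A →* ℂˣ) [Decidable (f = g)] :
    classInner (fun a => (f a : ℂ)) (fun a => (g a : ℂ)) = if f = g then 1 else 0 := by
  split_ifs with h
  · subst h
    exact classInner_irr_self (Characters.Linear.isIrrCharacter_hom f)
  · apply classInner_irr_ne (Characters.Linear.isIrrCharacter_hom f) (Characters.Linear.isIrrCharacter_hom g)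
    intro h1
    apply h
    ext a
    exact congrFun h1 a

/-- a character of norm one with a constituent -/
theorem eq_of_norm_one {G : Type*} [Group G] [Fintype G] {Θ χ : G → ℂ} (hΘ : IsCharacter G Θ)
    (hχ : IsIrrCharacter G χ) (h : classInner χ Θ ≠ 0) (h1 : classInner Θ Θ = 1) : χ = Θ := by
  by_contra hne
  exact h (classInner_irr_ne hχ (isIrr_of_classInner_self hΘ h1) hne)

/-- a character of norm two which is not orthogonal to two irreducible characters -/
theorem eq_of_norm_two {G : Type*} [Group G] [Fintype G] {Θ χ χ₁ χ₂ : G → ℂ} (hΘ : IsCharacter G Θ)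
    (hχ : IsIrrCharacter G χ) (h : classInner χ Θ ≠ 0) (h2 : classInner Θ Θ = 2) (h₁ : IsIrrCharacter G χ₁)
    (h₂ : IsIrrCharacter G χ₂) (h12 : χ₁ ≠ χ₂) (i₁ : classInner Θ χ₁ ≠ 0) (i₂ : classInner Θ χ₂ ≠ 0) :
    χ = χ₁ ∨ χ = χ₂ := by
  obtain ⟨μ, ν, hμ, hν, hne, hsum⟩ := HKS.exists_add_of_norm_two hΘ h2
  have key : ∀ ψ : G → ℂ, IsIrrCharacter G ψ → classInner Θ ψ ≠ 0 → ψ = μ ∨ ψ = ν := by
    intro ψ hψ hi
    by_contra hc
    push Not at hc
    apply hi
    rw [hsum, classInner_add_left, classInner_irr_ne hμ hψ (Ne.symm hc.1), classInner_irr_ne hν hψ (Ne.symm hc.2),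
      add_zero]
  have h' : classInner Θ χ ≠ 0 := by
    intro h0
    apply h
    rw [← classInner_conj_symm, h0, map_zero]
  have a := key χ hχ h'
  have b := key χ₁ h₁ i₁
  have c := key χ₂ h₂ i₂
  rcases a with rfl | rfl <;> rcases b with rfl | rfl <;> rcases c with rfl | rfl <;> simp_all

variable {F : Type v} [Field F] [Fintype F]

/-! ### The characters of the torus -/

/-- a character of the torus of `GL_2` as a character of `Fˣ × Fˣ` -/
noncomputable def fl (lam : (GL2.data F).T →* ℂˣ) : Fˣ × Fˣ →* ℂˣ := lam.comp (GL2.ttE F).toMonoidHom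

theorem fl_apply (lam : (GL2.data F).T →* ℂˣ) (z : Fˣ × Fˣ) : fl lam z = lam (GL2.tt z) := rfl

theorem fl_wT (lam : (GL2.data F).T →* ℂˣ) (z : Fˣ × Fˣ) : fl (lam.comp (GL2.data F).wT) z = fl lam z.swap := by
  rw [fl_apply, fl_apply, MonoidHom.comp_apply, GL2.data_wT]

theorem fl_inj {lam mu : (GL2.data F).T →* ℂˣ} (h : fl lam = fl mu) : lam = mu := by
  ext t
  obtain ⟨z, rfl⟩ := GL2.exists_tt t
  exact congrArg Units.val (DFunLike.congr_fun h z)

/-- the reflection `(a, b) ↦ (a, (a b)⁻¹)` -/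
def sg : Fˣ × Fˣ →* Fˣ × Fˣ where
  toFun z := (z.1, (z.1 * z.2)⁻¹)
  map_one' := by simp
  map_mul' z w := by
    apply Prod.ext
    · rfl
    · simp only [Prod.fst_mul, Prod.snd_mul, ← mul_inv]
      congr 1
      exact mul_mul_mul_comm _ _ _ _

theorem sg_apply (z : Fˣ × Fˣ) : sg z = (z.1, (z.1 * z.2)⁻¹) := rfl

theorem sg_sg (z : Fˣ × Fˣ) : sg (sg z) = z := by
  rw [sg_apply, sg_apply]
  apply Prod.ext
  · rfl
  · simp

theorem sg_surj : Function.Surjective (sg : Fˣ × Fˣ →* Fˣ × Fˣ) := fun z => ⟨sg z, sg_sg z⟩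

section inner

variable [Fintype Fˣ] [Fintype (SpecialLinearGroup (Fin 3) F)] [Fintype (GL (Fin 2) F)]

theorem X_eq (Ψ Φ : GL (Fin 2) F → ℂ) : X Ψ Φ = classInner (J Ψ) (J Φ ∘ sg) := by
  rw [X, classInner_def, Nat.card_eq_fintype_card]
  rfl

theorem J_add (Ψ Φ : GL (Fin 2) F → ℂ) : J (Ψ + Φ) = J Ψ + J Φ := by
  funext z
  exact (GL2.data F).jac_add Ψ Φ (GL2.tt z)

/-- the torus part of the principal series -/
theorem J_ind (lam : (GL2.data F).T →* ℂˣ) :
    J ((GL2.data F).ind lam) = (fun z => (fl lam z : ℂ)) + fun z => (fl (lam.comp (GL2.data F).wT) z : ℂ) := by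
  classical
  have := finite_hom (GL2.data F).comm_T
  have : Fintype ((GL2.data F).T →* ℂˣ) := Fintype.ofFinite _
  funext z
  have h := (GL2.data F).jac_eq (isCharacter_isClassFunction ((GL2.data F).isCharacter_ind lam)) (GL2.tt z)
  rw [J, h]
  simp only [Data.inner_ind, add_mul, ite_mul, one_mul, zero_mul, Finset.sum_add_distrib]
  rw [Pi.add_apply]
  congr 1
  · rw [Finset.sum_ite_eq Finset.univ lam, if_pos (Finset.mem_univ _)]
    rfl
  · rw [Finset.sum_eq_single (lam.comp (GL2.data F).wT)]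
    · rw [(GL2.data F).comp_wT_comp_wT, if_pos rfl]
      rfl
    · intro mu _ hmu
      rw [if_neg]
      intro h1
      apply hmu
      rw [h1, (GL2.data F).comp_wT_comp_wT]
    · exact fun h => absurd (Finset.mem_univ _) h

/-- a character of norm `0` on the unipotent subgroup has `J = 0` -/
theorem J_cusp {Ψ : GL (Fin 2) F → ℂ} (hΨ : IsIrrCharacter _ Ψ) (h : (GL2.data F).cf Ψ 0 = 0) : J Ψ = 0 := by
  classical
  have := finite_hom (GL2.data F).comm_T
  have : Fintype ((GL2.data F).T →* ℂˣ) := Fintype.ofFinite _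
  funext z
  have h1 := (GL2.data F).jac_eq (isIrr_isClassFunction hΨ) (GL2.tt z)
  rw [J, h1]
  refine Finset.sum_eq_zero fun lam _ => ?_
  obtain ⟨n, hn⟩ := (GL2.data F).inner_nat (isIrr_isCharacter hΨ) lam
  have h2 := (GL2.data F).le_cf_zero (isIrr_isCharacter hΨ) lam hn (n := 0) (by rw [h, Nat.cast_zero])
  have h3 : n = 0 := by omega
  rw [hn, h3, Nat.cast_zero, zero_mul]

theorem X_hom {Ψ Φ : GL (Fin 2) F → ℂ} {f g : Fˣ × Fˣ →* ℂˣ} [Decidable (f = g.comp sg)]
    (hΨ : J Ψ = fun z => (f z : ℂ)) (hΦ : J Φ = fun z => (g z : ℂ)) :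
    X Ψ Φ = if f = g.comp sg then 1 else 0 := by
  rw [X_eq, hΨ, hΦ, ← inner_hom f (g.comp sg)]
  rfl

theorem comp_sg_iff (f g : Fˣ × Fˣ →* ℂˣ) : f = g.comp sg ↔ f.comp sg = g := by
  constructor
  · rintro rfl
    ext z
    simp [sg_sg]
  · rintro rfl
    ext z
    simp [sg_sg]

/-- fixed by the reflection -/
theorem fix_sg_iff (f : Fˣ × Fˣ →* ℂˣ) : f = f.comp sg ↔ ∀ c, f (1, c) = 1 := by
  constructor
  · intro h c
    have h1 := DFunLike.congr_fun h (c, 1)
    rw [MonoidHom.comp_apply, sg_apply] at h1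
    have h2 : f (1, c) = f (c, 1) * (f (c, (c * 1)⁻¹))⁻¹ := by
      rw [← map_inv, ← map_mul]
      congr 1
      simp
    rw [h2, h1]
    exact mul_inv_cancel _
  · intro h
    have key : ∀ a b, f (a, b) = f (a, 1) := by
      intro a b
      have : ((a, b) : Fˣ × Fˣ) = (a, 1) * (1, b) := by simp
      rw [this, map_mul, h, mul_one]
    ext ⟨a, b⟩
    rw [MonoidHom.comp_apply, sg_apply]
    simp only []
    rw [key a b, key a (a * b)⁻¹]

/-- `f` composed with the swap -/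
def sw (f : Fˣ × Fˣ →* ℂˣ) : Fˣ × Fˣ →* ℂˣ := f.comp (MulEquiv.prodComm : Fˣ × Fˣ ≃* Fˣ × Fˣ).toMonoidHom

theorem sw_apply (f : Fˣ × Fˣ →* ℂˣ) (z : Fˣ × Fˣ) : sw f z = f z.swap := rfl

theorem sw_sw (f : Fˣ × Fˣ →* ℂˣ) : sw (sw f) = f := by
  ext z
  rfl

theorem fl_wT' (lam : (GL2.data F).T →* ℂˣ) : fl (lam.comp (GL2.data F).wT) = sw (fl lam) := by
  ext z
  rw [fl_wT, sw_apply]

theorem fl_eq_iff (lam : (GL2.data F).T →* ℂˣ) : lam = lam.comp (GL2.data F).wT ↔ fl lam = sw (fl lam) := by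
  constructor
  · intro h
    rw [← fl_wT', ← h]
  · intro h
    apply fl_inj
    rw [fl_wT', ← h]

theorem e1 (a b : Fˣ) : (b * (a * b)⁻¹)⁻¹ = a := by
  rw [_root_.mul_inv_rev, inv_inv, mul_inv_cancel_right]

theorem e2 (a b : Fˣ) : ((a * b)⁻¹ * a)⁻¹ = b := by
  rw [_root_.mul_inv_rev, inv_inv, inv_mul_cancel_left]

/-- the 3-cycles -/
theorem cycle_iff (f : Fˣ × Fˣ →* ℂˣ) : f = (sw f).comp sg ↔ sw f = f.comp sg := by
  constructor
  · intro h
    have h1 : ∀ a b, f (a, b) = f ((a * b)⁻¹, a) := fun a b => DFunLike.congr_fun h (a, b)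
    ext ⟨a, b⟩
    rw [MonoidHom.comp_apply, sg_apply, sw_apply]
    simp only [Prod.swap_prod_mk]
    rw [h1 b a, h1 _ b, e2, mul_comm b a]
  · intro h
    have h1 : ∀ a b, f (b, a) = f (a, (a * b)⁻¹) := fun a b => DFunLike.congr_fun h (a, b)
    ext ⟨a, b⟩
    rw [MonoidHom.comp_apply, sg_apply, sw_apply]
    simp only [Prod.swap_prod_mk]
    rw [h1 b a, h1 _ b, mul_comm b a, mul_comm (a * b)⁻¹ b, e1]

/-- the invariants under a 3-cycle are trivial on the scalars -/
theorem cycle_scalar {f : Fˣ × Fˣ →* ℂˣ} (h : f = (sw f).comp sg) (c : Fˣ) : f (c, c) = 1 := by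
  have h1 : ∀ a b, f (a, b) = f ((a * b)⁻¹, a) := fun a b => DFunLike.congr_fun h (a, b)
  have h2 := h1 1 c
  rw [one_mul] at h2
  have h3 : f (c, c) = f (1, c) * (f (c⁻¹, 1))⁻¹ := by
    rw [← map_inv, ← map_mul]
    congr 1
    simp
  rw [h3, h2]
  exact mul_inv_cancel _

/-- **The norm of the principal series.** -/
theorem norm_ps {lam : (GL2.data F).T →* ℂˣ} (h : lam ≠ lam.comp (GL2.data F).wT) :
    (fl lam ≠ (fl lam).comp sg → sw (fl lam) ≠ (sw (fl lam)).comp sg → fl lam ≠ (sw (fl lam)).comp sg →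
      classInner (I ((GL2.data F).ind lam)) (I ((GL2.data F).ind lam)) = 1) ∧
    (fl lam ≠ (fl lam).comp sg → sw (fl lam) ≠ (sw (fl lam)).comp sg → fl lam = (sw (fl lam)).comp sg →
      classInner (I ((GL2.data F).ind lam)) (I ((GL2.data F).ind lam)) = 3) ∧
    (fl lam = (fl lam).comp sg → classInner (I ((GL2.data F).ind lam)) (I ((GL2.data F).ind lam)) = 2) := by
  classical
  have hirr := (GL2.data F).isIrr_ind h
  have hcf := isIrr_isClassFunction hirr
  have hne : fl lam ≠ sw (fl lam) := fun h' => h ((fl_eq_iff lam).2 h')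
  have hX : X ((GL2.data F).ind lam) ((GL2.data F).ind lam) =
      ((if fl lam = (fl lam).comp sg then 1 else 0) + (if sw (fl lam) = (fl lam).comp sg then 1 else 0)) +
      ((if fl lam = (sw (fl lam)).comp sg then 1 else 0) + (if sw (fl lam) = (sw (fl lam)).comp sg then 1 else 0)) := by
    rw [X_eq, J_ind, fl_wT']
    have e3 : ((fun z => (fl lam z : ℂ)) + fun z => (sw (fl lam) z : ℂ)) ∘ (sg : Fˣ × Fˣ →* Fˣ × Fˣ) =
        (fun z => (((fl lam).comp sg) z : ℂ)) + fun z => (((sw (fl lam)).comp sg) z : ℂ) := rfl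
    rw [e3, classInner_add_right, classInner_add_left, classInner_add_left, inner_hom, inner_hom, inner_hom, inner_hom]
  rw [inner_I hcf hcf, classInner_irr_self hirr, hX]
  refine ⟨fun h1 h2 h3 => ?_, fun h1 h2 h3 => ?_, fun h1 => ?_⟩
  · rw [if_neg h1, if_neg h2, if_neg h3, if_neg (fun h4 => h3 ((cycle_iff _).2 h4))]
    norm_num
  · rw [if_neg h1, if_neg h2, if_pos h3, if_pos ((cycle_iff _).1 h3)]
    norm_num
  · have h2 : fl lam ≠ (sw (fl lam)).comp sg := by
      intro h2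
      apply hne
      rw [comp_sg_iff] at h1 h2
      exact h1.symm.trans h2
    have h3 : sw (fl lam) ≠ (sw (fl lam)).comp sg := by
      intro h3
      rw [fix_sg_iff] at h1 h3
      apply hne
      ext ⟨a, b⟩
      have k1 : ((a, b) : Fˣ × Fˣ) = (a, 1) * (1, b) := by simp
      have k2 : fl lam (a, 1) = 1 := h3 a
      have k3 : fl lam (b, 1) = 1 := h3 b
      have k4 : ((b, a) : Fˣ × Fˣ) = (b, 1) * (1, a) := by simp
      rw [sw_apply]
      simp only [Prod.swap_prod_mk]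
      rw [k1, k4, map_mul, map_mul, k2, k3, h1, h1]
    rw [if_pos h1, if_neg h2, if_neg h3, if_neg (fun h4 => h2 ((cycle_iff _).2 h4))]
    norm_num

end inner

/-! ### Orders -/

omit [Fintype F] in
theorem mem_ker_pi {t : P F} : t ∈ (pi : P F →* GL (Fin 2) F).ker ↔
    ((t : SpecialLinearGroup (Fin 3) F) : Matrix (Fin 3) (Fin 3) F) 0 0 = 1 ∧
    ((t : SpecialLinearGroup (Fin 3) F) : Matrix (Fin 3) (Fin 3) F) 0 1 = 0 ∧
    ((t : SpecialLinearGroup (Fin 3) F) : Matrix (Fin 3) (Fin 3) F) 1 0 = 0 ∧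
    ((t : SpecialLinearGroup (Fin 3) F) : Matrix (Fin 3) (Fin 3) F) 1 1 = 1 := by
  rw [MonoidHom.mem_ker, pi_apply]
  constructor
  · intro h
    refine ⟨?_, ?_, ?_, ?_⟩
    · have := congrArg GL2.e00 h
      rw [GL2.mk00] at this
      rw [this]; simp [GL2.e00]
    · have := congrArg GL2.e01 h
      rw [GL2.mk01] at this
      rw [this]; simp [GL2.e01]
    · have := congrArg GL2.e10 h
      rw [GL2.mk10] at this
      rw [this]; simp [GL2.e10]
    · have := congrArg GL2.e11 h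
      rw [GL2.mk11] at this
      rw [this]; simp [GL2.e11]
  · rintro ⟨h1, h2, h3, h4⟩
    apply GL2.ext4
    · rw [GL2.mk00, h1]; simp [GL2.e00]
    · rw [GL2.mk01, h2]; simp [GL2.e01]
    · rw [GL2.mk10, h3]; simp [GL2.e10]
    · rw [GL2.mk11, h4]; simp [GL2.e11]

/-- the elements of the unipotent radical -/
def ur (z : F × F) : SpecialLinearGroup (Fin 3) F :=
  ⟨!![1, 0, z.1; 0, 1, z.2; 0, 0, 1], by rw [det_fin_three]; simp⟩

omit [Fintype F] in
theorem coe_ur (z : F × F) : ((ur z : SpecialLinearGroup (Fin 3) F) : Matrix (Fin 3) (Fin 3) F) =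
    !![1, 0, z.1; 0, 1, z.2; 0, 0, 1] := rfl

omit [Fintype F] in
theorem ur_mem (z : F × F) : (ur z : SpecialLinearGroup (Fin 3) F) ∈ P F := ⟨rfl, rfl⟩

/-- the parametrisation of the unipotent radical -/
noncomputable def urE (F : Type v) [Field F] : F × F ≃ (pi : P F →* GL (Fin 2) F).ker :=
  Equiv.ofBijective (fun z => ⟨⟨ur z, ur_mem z⟩, mem_ker_pi.2 ⟨rfl, rfl, rfl, rfl⟩⟩) (by
    constructor
    · rintro ⟨x, y⟩ ⟨x', y'⟩ h
      have h1 : ur (x, y) = ur (x', y') := congrArg (fun z => ((z : P F) : SpecialLinearGroup (Fin 3) F))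
        (congrArg Subtype.val h)
      have h2 := congrArg (fun z : SpecialLinearGroup (Fin 3) F => (z : Matrix (Fin 3) (Fin 3) F)) h1
      simp only [coe_ur] at h2
      have h02 := congrFun (congrFun h2 0) 2
      have h12 := congrFun (congrFun h2 1) 2
      simp at h02 h12
      rw [h02, h12]
    · rintro ⟨t, ht⟩
      obtain ⟨h1, h2, h3, h4⟩ := mem_ker_pi.1 ht
      have hdet := det3 (t : SpecialLinearGroup (Fin 3) F)
      have h5 := t.2.1
      have h6 := t.2.2
      have h7 : ((t : SpecialLinearGroup (Fin 3) F) : Matrix (Fin 3) (Fin 3) F) 2 2 = 1 := by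
        refine Eq.trans ?_ hdet
        rw [h1, h2, h3, h4, h5, h6]; ring
      refine ⟨(((t : SpecialLinearGroup (Fin 3) F) : Matrix (Fin 3) (Fin 3) F) 0 2,
        ((t : SpecialLinearGroup (Fin 3) F) : Matrix (Fin 3) (Fin 3) F) 1 2), ?_⟩
      apply Subtype.ext
      apply Subtype.ext
      apply Subtype.ext
      change ((ur _ : SpecialLinearGroup (Fin 3) F) : Matrix (Fin 3) (Fin 3) F) = _
      rw [coe_ur]
      ext i j
      fin_cases i <;> fin_cases j
      · exact h1.symm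
      · exact h2.symm
      · rfl
      · exact h3.symm
      · exact h4.symm
      · rfl
      · exact h5.symm
      · exact h6.symm
      · exact h7.symm)

omit [Fintype F] in
theorem urE_coe (z : F × F) : (((urE F z : (pi : P F →* GL (Fin 2) F).ker) : P F) : SpecialLinearGroup (Fin 3) F) =
    ur z := rfl

theorem card_ker_pi : Nat.card (pi : P F →* GL (Fin 2) F).ker = Fintype.card F ^ 2 := by
  rw [← Nat.card_congr (urE F), Nat.card_prod, Nat.card_eq_fintype_card, pow_two]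

theorem card_P : Nat.card (P F) = Fintype.card F ^ 2 * Nat.card (GL (Fin 2) F) := by
  rw [Subgroup.card_eq_card_quotient_mul_card_subgroup (pi : P F →* GL (Fin 2) F).ker, card_ker_pi,
    Nat.card_congr (QuotientGroup.quotientKerEquivOfSurjective _ pi_surj).toEquiv, mul_comm]

theorem card_GL2 : Nat.card (GL (Fin 2) F) = (Fintype.card F ^ 2 - 1) * (Fintype.card F ^ 2 - Fintype.card F) := by
  rw [Matrix.card_GL_field, Fin.prod_univ_two]
  simp

theorem card_SL3 : Nat.card (SpecialLinearGroup (Fin 3) F) =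
    Fintype.card F ^ 3 * (Fintype.card F ^ 2 - 1) * (Fintype.card F ^ 3 - 1) := by
  have h := S0242.result (F := F) rfl 3 (by norm_num)
  have h1 := Fintype.one_lt_card (α := F)
  obtain ⟨r, hr⟩ : ∃ r, Fintype.card F = r + 2 := ⟨Fintype.card F - 2, by omega⟩
  rw [Fin.prod_univ_three] at h
  rw [hr] at h ⊢
  refine Nat.eq_of_mul_eq_mul_left (show 0 < r + 2 - 1 by omega) (h.trans ?_)
  have e1 : r + 2 - 1 = r + 1 := by omega
  have e2 : (r + 2) ^ 3 - (r + 2) ^ ((0 : Fin 3) : ℕ) = (r + 2) ^ 3 - 1 := by simp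
  have e3 : (r + 2) ^ 3 - (r + 2) ^ ((1 : Fin 3) : ℕ) = (r + 2) * ((r + 2) ^ 2 - 1) := by
    rw [Nat.mul_sub]
    congr 1
    · ring
    · simp
  have e4 : (r + 2) ^ 3 - (r + 2) ^ ((2 : Fin 3) : ℕ) = (r + 2) ^ 2 * (r + 1) := by
    have : (r + 2) ^ 3 = (r + 2) ^ 2 * (r + 1) + (r + 2) ^ 2 := by ring
    simp only [Fin.val_two]
    omega
  rw [e1, e2, e3, e4]
  ring

theorem index_P : (P F).index = Fintype.card F ^ 2 + Fintype.card F + 1 := by
  have h := (P F).index_mul_card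
  rw [card_P, card_GL2, card_SL3] at h
  have h1 := Fintype.one_lt_card (α := F)
  obtain ⟨r, hr⟩ : ∃ r, Fintype.card F = r + 2 := ⟨Fintype.card F - 2, by omega⟩
  rw [hr] at h ⊢
  have e1 : (r + 2) ^ 2 - 1 = (r + 1) * (r + 3) := by
    have : (r + 2) ^ 2 = (r + 1) * (r + 3) + 1 := by ring
    omega
  have e2 : (r + 2) ^ 2 - (r + 2) = (r + 2) * (r + 1) := by
    have : (r + 2) ^ 2 = (r + 2) * (r + 1) + (r + 2) := by ring
    omega
  have e3 : (r + 2) ^ 3 - 1 = (r + 1) * ((r + 2) ^ 2 + (r + 2) + 1) := by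
    have : (r + 2) ^ 3 = (r + 1) * ((r + 2) ^ 2 + (r + 2) + 1) + 1 := by ring
    omega
  rw [e1, e2, e3] at h
  have h2 : 0 < (r + 2) ^ 2 * ((r + 1) * (r + 3) * ((r + 2) * (r + 1))) := by positivity
  refine Nat.eq_of_mul_eq_mul_right h2 (h.trans ?_)
  ring

section deg

variable [Fintype Fˣ] [Fintype (SpecialLinearGroup (Fin 3) F)] [Fintype (GL (Fin 2) F)]

theorem I_one (Ψ : GL (Fin 2) F → ℂ) : I Ψ 1 = ((Fintype.card F : ℂ) ^ 2 + Fintype.card F + 1) * Ψ 1 := by
  unfold I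
  rw [indFun_one, index_P, Function.comp_apply, map_one]
  push_cast
  ring

/-- the value at a scalar -/
theorem I_scalar (Ψ : GL (Fin 2) F → ℂ) {z : SpecialLinearGroup (Fin 3) F}
    (hz : z ∈ Subgroup.center (SpecialLinearGroup (Fin 3) F)) (hzP : z ∈ P F) (h : Ψ (pi ⟨z, hzP⟩) = Ψ 1) :
    I Ψ z = I Ψ 1 := by
  classical
  unfold I
  rw [Core.indFun_apply, Core.indFun_apply]
  congr 1
  refine Finset.sum_congr rfl fun x _ => ?_
  have e1 : x⁻¹ * z * x = z := by
    rw [mul_assoc, ← Subgroup.mem_center_iff.1 hz x]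
    group
  have e2 : x⁻¹ * 1 * x = 1 := by group
  rw [e1, e2, ext_apply_mem _ _ _ hzP, ext_apply_mem _ _ _ (P F).one_mem]
  rw [Function.comp_apply, h]
  exact congrArg Ψ (map_one pi).symm

end deg

end Cfsg.Agent.H612.Deg3
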