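import Cfsg.Agent.H627.Gow.Mackey
import Cfsg.Agent.H670.SL2Vals
import Cfsg.Agent.H53.HC.GLW

/-!
# A maximal parabolic subgroup of `SL_3(q)` (helper612)

* `P F` : the stabiliser of the plane of the first two coordinates, `pi : P F →* GL_2(F)`, `s3` : the other double
  coset;
* `I Ψ` : the function on `SL_3(q)` induced from `Ψ ∘ pi`;
* `inner_I` : `⟨I Ψ, I Φ⟩ = ⟨Ψ, Φ⟩ + (q - 1)⁻² ∑ J Ψ (a, b) conj (J Φ (a, (a b)⁻¹))`, `J` the Jacquet average.
-/

set_option autoImplicit false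
set_option linter.unusedSectionVars false
set_option linter.unusedSimpArgs false

open scoped ComplexConjugate
open Cfsg Matrix

namespace Cfsg.Agent.H612.Deg3

open Cfsg.Agent.Characters Cfsg.Agent.Characters.Core Cfsg.Agent.OddOrderCharacters.Clifford Cfsg.Agent.H53.HC
  Cfsg.Agent.H627.Gow Cfsg.Agent.H670 Cfsg.Agent.H670.RankOne

universe u v

variable {F : Type v} [Field F]

theorem classInner_comp_surj {G : Type*} {Q : Type*} [Group G] [Group Q] [Fintype G] [Fintype Q] (f : G →* Q)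
    (hf : Function.Surjective f) (φ ψ : Q → ℂ) : classInner (φ ∘ f) (ψ ∘ f) = classInner φ ψ := by
  rw [classInner_def, classInner_def]
  have h1 := sum_comp_hom f hf (fun x => φ x * conj (ψ x))
  have h2 : Nat.card G = Nat.card f.ker * Nat.card Q := by
    rw [Subgroup.card_eq_card_quotient_mul_card_subgroup f.ker,
      Nat.card_congr (QuotientGroup.quotientKerEquivOfSurjective f hf).toEquiv, mul_comm]
  have h3 : (Nat.card f.ker : ℂ) ≠ 0 := by exact_mod_cast Nat.card_pos.ne'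
  simp only [Function.comp_apply]
  rw [h1, h2]
  push_cast
  rw [mul_inv]
  field_simp

/-! ### The subgroup -/

theorem det3 (g : SpecialLinearGroup (Fin 3) F) :
    (g : Matrix (Fin 3) (Fin 3) F) 0 0 * (g : Matrix (Fin 3) (Fin 3) F) 1 1 * (g : Matrix (Fin 3) (Fin 3) F) 2 2 -
      (g : Matrix (Fin 3) (Fin 3) F) 0 0 * (g : Matrix (Fin 3) (Fin 3) F) 1 2 * (g : Matrix (Fin 3) (Fin 3) F) 2 1 -
      (g : Matrix (Fin 3) (Fin 3) F) 0 1 * (g : Matrix (Fin 3) (Fin 3) F) 1 0 * (g : Matrix (Fin 3) (Fin 3) F) 2 2 +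
      (g : Matrix (Fin 3) (Fin 3) F) 0 1 * (g : Matrix (Fin 3) (Fin 3) F) 1 2 * (g : Matrix (Fin 3) (Fin 3) F) 2 0 +
      (g : Matrix (Fin 3) (Fin 3) F) 0 2 * (g : Matrix (Fin 3) (Fin 3) F) 1 0 * (g : Matrix (Fin 3) (Fin 3) F) 2 1 -
      (g : Matrix (Fin 3) (Fin 3) F) 0 2 * (g : Matrix (Fin 3) (Fin 3) F) 1 1 * (g : Matrix (Fin 3) (Fin 3) F) 2 0 =
      1 := by
  rw [← Matrix.det_fin_three]
  exact g.2

/-- the stabiliser of the plane of the first two coordinates -/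
def P (F : Type v) [Field F] : Subgroup (SpecialLinearGroup (Fin 3) F) where
  carrier := {g | (g : Matrix (Fin 3) (Fin 3) F) 2 0 = 0 ∧ (g : Matrix (Fin 3) (Fin 3) F) 2 1 = 0}
  one_mem' := by simp
  mul_mem' := by
    rintro g h ⟨h1, h2⟩ ⟨h3, h4⟩
    simp [Matrix.mul_apply, Fin.sum_univ_three, h1, h2, h3, h4]
  inv_mem' := by
    rintro g ⟨h1, h2⟩
    simp [Matrix.SpecialLinearGroup.coe_inv, adjugate_fin_three, h1, h2]

theorem mem_P {g : SpecialLinearGroup (Fin 3) F} : g ∈ P F ↔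
    (g : Matrix (Fin 3) (Fin 3) F) 2 0 = 0 ∧ (g : Matrix (Fin 3) (Fin 3) F) 2 1 = 0 := Iff.rfl

theorem detP (g : P F) :
    ((g : SpecialLinearGroup (Fin 3) F) : Matrix (Fin 3) (Fin 3) F) 0 0 *
      ((g : SpecialLinearGroup (Fin 3) F) : Matrix (Fin 3) (Fin 3) F) 1 1 -
      ((g : SpecialLinearGroup (Fin 3) F) : Matrix (Fin 3) (Fin 3) F) 0 1 *
      ((g : SpecialLinearGroup (Fin 3) F) : Matrix (Fin 3) (Fin 3) F) 1 0 ≠ 0 := by
  intro h
  have h1 := det3 (g : SpecialLinearGroup (Fin 3) F)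
  have hg1 := g.2.1
  have hg2 := g.2.2
  have h2 : (((g : SpecialLinearGroup (Fin 3) F) : Matrix (Fin 3) (Fin 3) F) 0 0 *
      ((g : SpecialLinearGroup (Fin 3) F) : Matrix (Fin 3) (Fin 3) F) 1 1 -
      ((g : SpecialLinearGroup (Fin 3) F) : Matrix (Fin 3) (Fin 3) F) 0 1 *
      ((g : SpecialLinearGroup (Fin 3) F) : Matrix (Fin 3) (Fin 3) F) 1 0) *
      ((g : SpecialLinearGroup (Fin 3) F) : Matrix (Fin 3) (Fin 3) F) 2 2 = 1 := by
    refine Eq.trans ?_ h1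
    rw [hg1, hg2]; ring
  rw [h, zero_mul] at h2
  exact zero_ne_one h2

/-- the action on the plane -/
noncomputable def pi : P F →* GL (Fin 2) F where
  toFun g := GL2.mk (((g : SpecialLinearGroup (Fin 3) F) : Matrix (Fin 3) (Fin 3) F) 0 0)
    (((g : SpecialLinearGroup (Fin 3) F) : Matrix (Fin 3) (Fin 3) F) 0 1)
    (((g : SpecialLinearGroup (Fin 3) F) : Matrix (Fin 3) (Fin 3) F) 1 0)
    (((g : SpecialLinearGroup (Fin 3) F) : Matrix (Fin 3) (Fin 3) F) 1 1) (detP g)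
  map_one' := by
    apply GL2.ext4 <;> simp only [GL2.mk00, GL2.mk01, GL2.mk10, GL2.mk11] <;> simp [GL2.e00, GL2.e01, GL2.e10, GL2.e11]
  map_mul' g h := by
    have h1 := h.2.1
    have h2 := h.2.2
    apply GL2.ext4 <;>
      simp [GL2.mul00, GL2.mul01, GL2.mul10, GL2.mul11, GL2.mk00, GL2.mk01, GL2.mk10, GL2.mk11,
        Matrix.mul_apply, Fin.sum_univ_three, h1, h2]

theorem pi_apply (g : P F) : pi g = GL2.mk (((g : SpecialLinearGroup (Fin 3) F) : Matrix (Fin 3) (Fin 3) F) 0 0)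
    (((g : SpecialLinearGroup (Fin 3) F) : Matrix (Fin 3) (Fin 3) F) 0 1)
    (((g : SpecialLinearGroup (Fin 3) F) : Matrix (Fin 3) (Fin 3) F) 1 0)
    (((g : SpecialLinearGroup (Fin 3) F) : Matrix (Fin 3) (Fin 3) F) 1 1) (detP g) := rfl

/-- the lift of an element of `GL_2` -/
noncomputable def lift (A : GL (Fin 2) F) : P F :=
  ⟨⟨!![GL2.e00 A, GL2.e01 A, 0; GL2.e10 A, GL2.e11 A, 0; 0, 0,
    (GL2.e00 A * GL2.e11 A - GL2.e01 A * GL2.e10 A)⁻¹], by
      have h := GL2.det_ne A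
      rw [det_fin_three]
      simp
      rw [← sub_mul, mul_inv_cancel₀ h]⟩, rfl, rfl⟩

theorem pi_lift (A : GL (Fin 2) F) : pi (lift A) = A := by
  rw [pi_apply]
  apply GL2.ext4 <;> simp [lift, GL2.mk00, GL2.mk01, GL2.mk10, GL2.mk11]

theorem pi_surj : Function.Surjective (pi : P F →* GL (Fin 2) F) := fun A => ⟨lift A, pi_lift A⟩

/-- the representative of the big double coset -/
def s3 : SpecialLinearGroup (Fin 3) F := ⟨!![1, 0, 0; 0, 0, 1; 0, -1, 0], by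
  rw [det_fin_three]
  simp⟩

theorem coe_s3 : ((s3 : SpecialLinearGroup (Fin 3) F) : Matrix (Fin 3) (Fin 3) F) =
    !![1, 0, 0; 0, 0, 1; 0, -1, 0] := rfl

theorem coe_s3_inv : (((s3 : SpecialLinearGroup (Fin 3) F)⁻¹ : SpecialLinearGroup (Fin 3) F) :
    Matrix (Fin 3) (Fin 3) F) = !![1, 0, 0; 0, 0, -1; 0, 1, 0] := by
  rw [Matrix.SpecialLinearGroup.coe_inv, coe_s3, adjugate_fin_three]
  ext i j
  fin_cases i <;> fin_cases j <;> simp

/-- the conjugate by `s3` -/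
theorem conj_s3 (t : SpecialLinearGroup (Fin 3) F) :
    (((s3 : SpecialLinearGroup (Fin 3) F)⁻¹ * t * s3 : SpecialLinearGroup (Fin 3) F) :
      Matrix (Fin 3) (Fin 3) F) =
    !![(t : Matrix (Fin 3) (Fin 3) F) 0 0, -(t : Matrix (Fin 3) (Fin 3) F) 0 2, (t : Matrix (Fin 3) (Fin 3) F) 0 1;
      -(t : Matrix (Fin 3) (Fin 3) F) 2 0, (t : Matrix (Fin 3) (Fin 3) F) 2 2, -(t : Matrix (Fin 3) (Fin 3) F) 2 1;
      (t : Matrix (Fin 3) (Fin 3) F) 1 0, -(t : Matrix (Fin 3) (Fin 3) F) 1 2, (t : Matrix (Fin 3) (Fin 3) F) 1 1] := by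
  rw [Matrix.SpecialLinearGroup.coe_mul, Matrix.SpecialLinearGroup.coe_mul, coe_s3, coe_s3_inv]
  ext i j
  fin_cases i <;> fin_cases j <;> simp [Matrix.mul_apply, Fin.sum_univ_three, Matrix.vecMul, dotProduct]

theorem s3_notMem : (s3 : SpecialLinearGroup (Fin 3) F) ∉ P F := by
  rw [mem_P, coe_s3]
  simp

/-- Two double cosets. -/
theorem mem_dbl_s3 {g : SpecialLinearGroup (Fin 3) F} (hg : g ∉ P F) : g ∈ dbl (P F) s3 := by
  -- an element `b` of `P` with second row minus the third row of `g`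
  obtain ⟨x, y, hxy⟩ : ∃ x y : F, -x * (g : Matrix (Fin 3) (Fin 3) F) 2 1 + y * (g : Matrix (Fin 3) (Fin 3) F) 2 0 = 1 := by
    by_cases h : (g : Matrix (Fin 3) (Fin 3) F) 2 0 = 0
    · have h' : (g : Matrix (Fin 3) (Fin 3) F) 2 1 ≠ 0 := fun h' => hg ⟨h, h'⟩
      exact ⟨-((g : Matrix (Fin 3) (Fin 3) F) 2 1)⁻¹, 0, by rw [neg_neg, inv_mul_cancel₀ h', zero_mul, add_zero]⟩
    · exact ⟨0, ((g : Matrix (Fin 3) (Fin 3) F) 2 0)⁻¹, by rw [inv_mul_cancel₀ h]; simp⟩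
  let b : SpecialLinearGroup (Fin 3) F := ⟨!![x, y, 0; -(g : Matrix (Fin 3) (Fin 3) F) 2 0,
    -(g : Matrix (Fin 3) (Fin 3) F) 2 1, -(g : Matrix (Fin 3) (Fin 3) F) 2 2; 0, 0, 1], by
      rw [det_fin_three]
      simp
      linear_combination hxy⟩
  have hb : b ∈ P F := ⟨rfl, rfl⟩
  have hbs : ((s3 * b : SpecialLinearGroup (Fin 3) F) : Matrix (Fin 3) (Fin 3) F) =
      !![x, y, 0; 0, 0, 1; (g : Matrix (Fin 3) (Fin 3) F) 2 0, (g : Matrix (Fin 3) (Fin 3) F) 2 1,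
        (g : Matrix (Fin 3) (Fin 3) F) 2 2] := by
    rw [Matrix.SpecialLinearGroup.coe_mul, coe_s3]
    ext i j
    fin_cases i <;> fin_cases j <;> simp [Matrix.mul_apply, Fin.sum_univ_three, b]
  have ha : g * (s3 * b)⁻¹ ∈ P F := by
    rw [mem_P, Matrix.SpecialLinearGroup.coe_mul, Matrix.SpecialLinearGroup.coe_inv, hbs, adjugate_fin_three]
    simp [Matrix.mul_apply, Fin.sum_univ_three]
    constructor <;> ring
  exact ⟨_, ha, b, hb, by group⟩

/-! ### The torus of the second double coset -/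

/-- the elements of `P ∩ s P s⁻¹` -/
def elt (z : (Fˣ × Fˣ) × F × F) : SpecialLinearGroup (Fin 3) F :=
  ⟨!![(z.1.1 : F), z.2.1, z.2.2; 0, (z.1.2 : F), 0; 0, 0, (((z.1.1 * z.1.2)⁻¹ : Fˣ) : F)], by
    rw [det_fin_three]
    simp
    field_simp⟩

theorem coe_elt (z : (Fˣ × Fˣ) × F × F) : ((elt z : SpecialLinearGroup (Fin 3) F) : Matrix (Fin 3) (Fin 3) F) =
    !![(z.1.1 : F), z.2.1, z.2.2; 0, (z.1.2 : F), 0; 0, 0, (((z.1.1 * z.1.2)⁻¹ : Fˣ) : F)] := rfl

theorem elt_mem (z : (Fˣ × Fˣ) × F × F) : (elt z : SpecialLinearGroup (Fin 3) F) ∈ P F := by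
  rw [mem_P, coe_elt]
  simp

theorem conj_elt_mem (z : (Fˣ × Fˣ) × F × F) : s3⁻¹ * (elt z : SpecialLinearGroup (Fin 3) F) * s3 ∈ P F := by
  rw [mem_P, conj_s3, coe_elt]
  simp

/-- the parametrisation -/
noncomputable def eltE : ((Fˣ × Fˣ) × F × F) ≃ dsub (P F) s3 :=
  Equiv.ofBijective (fun z => ⟨⟨elt z, elt_mem z⟩, (mem_dsub _ _ _).2 (conj_elt_mem z)⟩) (by
    constructor
    · rintro ⟨⟨a, b⟩, x, y⟩ ⟨⟨a', b'⟩, x', y'⟩ h
      have h1 : elt ((a, b), x, y) = elt ((a', b'), x', y') := congrArg (fun z => ((z : P F) : SpecialLinearGroup (Fin 3) F))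
        (congrArg Subtype.val h)
      have h2 := congrArg (fun z : SpecialLinearGroup (Fin 3) F => (z : Matrix (Fin 3) (Fin 3) F)) h1
      simp only [coe_elt] at h2
      have h00 := congrFun (congrFun h2 0) 0
      have h01 := congrFun (congrFun h2 0) 1
      have h02 := congrFun (congrFun h2 0) 2
      have h11 := congrFun (congrFun h2 1) 1
      simp at h00 h01 h02 h11
      rw [Units.ext h00, h01, h02, Units.ext h11]
    · rintro ⟨⟨g, hg⟩, hg'⟩
      have h1 := (mem_dsub _ _ _).1 hg'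
      rw [mem_P] at h1 hg
      change (((s3 : SpecialLinearGroup (Fin 3) F)⁻¹ * g * s3 : SpecialLinearGroup (Fin 3) F) :
        Matrix (Fin 3) (Fin 3) F) 2 0 = 0 ∧ (((s3 : SpecialLinearGroup (Fin 3) F)⁻¹ * g * s3 :
        SpecialLinearGroup (Fin 3) F) : Matrix (Fin 3) (Fin 3) F) 2 1 = 0 at h1
      rw [conj_s3] at h1
      simp at h1
      obtain ⟨h10, h12⟩ := h1
      obtain ⟨h20, h21⟩ := hg
      have hdet := det3 g
      rw [h10, h12, h20, h21] at hdet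
      simp only [mul_zero, zero_mul, sub_zero, add_zero] at hdet
      have h00 : (g : Matrix (Fin 3) (Fin 3) F) 0 0 ≠ 0 := by
        intro h; rw [h] at hdet; simp at hdet
      have h11 : (g : Matrix (Fin 3) (Fin 3) F) 1 1 ≠ 0 := by
        intro h; rw [h] at hdet; simp at hdet
      refine ⟨((Units.mk0 _ h00, Units.mk0 _ h11), (g : Matrix (Fin 3) (Fin 3) F) 0 1,
        (g : Matrix (Fin 3) (Fin 3) F) 0 2), ?_⟩
      apply Subtype.ext
      apply Subtype.ext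
      apply Subtype.ext
      change ((elt _ : SpecialLinearGroup (Fin 3) F) : Matrix (Fin 3) (Fin 3) F) = (g : Matrix (Fin 3) (Fin 3) F)
      rw [coe_elt]
      ext i j
      fin_cases i <;> fin_cases j <;> simp [h10, h12, h20, h21]
      field_simp
      linear_combination -hdet)

theorem eltE_coe (z : (Fˣ × Fˣ) × F × F) : (((eltE z : dsub (P F) s3) : P F) : SpecialLinearGroup (Fin 3) F) = elt z :=
  rfl

/-! ### The inner products -/

section inner

variable [Fintype F] [Fintype Fˣ] [Fintype (SpecialLinearGroup (Fin 3) F)] [Fintype (GL (Fin 2) F)]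

/-- the function induced from `Ψ ∘ pi` -/
noncomputable def I (Ψ : GL (Fin 2) F → ℂ) : SpecialLinearGroup (Fin 3) F → ℂ := indFun (P F) (Ψ ∘ pi)

/-- the Jacquet average -/
noncomputable def J (Ψ : GL (Fin 2) F → ℂ) (z : Fˣ × Fˣ) : ℂ := (GL2.data F).jac Ψ (GL2.tt z)

theorem J_eq (Ψ : GL (Fin 2) F → ℂ) (a b : Fˣ) :
    ∑ x : F, Ψ (GL2.mk a x 0 b (by simp)) = (Fintype.card F : ℂ) * J Ψ (a, b) := by
  have hF : (Fintype.card F : ℂ) ≠ 0 := Nat.cast_ne_zero.2 Fintype.card_ne_zero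
  rw [J, Data.jac_def, mul_inv_cancel_left₀ hF]
  symm
  refine Fintype.sum_equiv (Equiv.mulRight₀ (b : F) b.ne_zero) _ _ fun x => ?_
  congr 1
  apply GL2.ext4
  · simp [GL2.data_X, GL2.tt_coe, GL2.mul00, GL2.x00, GL2.x01, GL2.tor00, GL2.tor10, GL2.mk00]
  · simp [GL2.data_X, GL2.tt_coe, GL2.mul01, GL2.x00, GL2.x01, GL2.tor01, GL2.tor11, GL2.mk01]
  · simp [GL2.data_X, GL2.tt_coe, GL2.mul10, GL2.x10, GL2.x11, GL2.tor00, GL2.tor10, GL2.mk10]
  · simp [GL2.data_X, GL2.tt_coe, GL2.mul11, GL2.x10, GL2.x11, GL2.tor01, GL2.tor11, GL2.mk11]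

/-- the second Mackey term -/
noncomputable def X (Ψ Φ : GL (Fin 2) F → ℂ) : ℂ :=
  ((Fintype.card (Fˣ × Fˣ) : ℂ))⁻¹ * ∑ z : Fˣ × Fˣ, J Ψ z * conj (J Φ (z.1, (z.1 * z.2)⁻¹))

theorem mterm_s3 [Fintype (P F)] (Ψ Φ : GL (Fin 2) F → ℂ) :
    mterm (P F) (Ψ ∘ pi) (Φ ∘ pi) s3 = X Ψ Φ := by
  classical
  have : Fintype (dsub (P F) s3) := Fintype.ofFinite _
  have hF : (Fintype.card F : ℂ) ≠ 0 := Nat.cast_ne_zero.2 Fintype.card_ne_zero
  rw [mterm_eq_classInner, classInner_def, Nat.card_congr eltE.symm, ← Equiv.sum_comp eltE, Fintype.sum_prod_type, X,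
    Nat.card_eq_fintype_card]
  simp only [Fintype.card_prod]
  have h1 : ∀ z : Fˣ × Fˣ, ∑ y : F × F, ((Ψ ∘ pi) ∘ (dsub (P F) s3).subtype) (eltE (z, y)) *
      conj (((Φ ∘ pi) ∘ dhom (P F) s3) (eltE (z, y))) =
      (Fintype.card F : ℂ) * (Fintype.card F : ℂ) * (J Ψ z * conj (J Φ (z.1, (z.1 * z.2)⁻¹))) := by
    rintro ⟨a, b⟩
    have h2 : ∀ y : F × F, ((Ψ ∘ pi) ∘ (dsub (P F) s3).subtype) (eltE ((a, b), y)) *
        conj (((Φ ∘ pi) ∘ dhom (P F) s3) (eltE ((a, b), y))) =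
        Ψ (GL2.mk a y.1 0 b (by simp)) * conj (Φ (GL2.mk a (-y.2) 0 (((a * b)⁻¹ : Fˣ) : F) (by simp))) := by
      rintro ⟨x, y⟩
      have e1 : pi ⟨elt ((a, b), x, y), elt_mem _⟩ = GL2.mk (a : F) x 0 b (by simp) := rfl
      have e2 : pi ⟨s3⁻¹ * elt ((a, b), x, y) * s3, conj_elt_mem _⟩ =
          GL2.mk (a : F) (-y) 0 (((a * b)⁻¹ : Fˣ) : F) (by simp) := by
        rw [pi_apply]
        apply GL2.ext4
        · simp only [GL2.mk00, conj_s3, coe_elt]; simp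
        · simp only [GL2.mk01, conj_s3, coe_elt]; simp
        · simp only [GL2.mk10, conj_s3, coe_elt]; simp
        · simp only [GL2.mk11, conj_s3, coe_elt]; simp
      change Ψ (pi ⟨elt ((a, b), x, y), elt_mem _⟩) * conj (Φ (pi ⟨s3⁻¹ * elt ((a, b), x, y) * s3, conj_elt_mem _⟩)) = _
      rw [e1, e2]
    have h3 : ∑ y : F, Φ (GL2.mk (a : F) (-y) 0 (((a * b)⁻¹ : Fˣ) : F) (by simp)) =
        (Fintype.card F : ℂ) * J Φ (a, (a * b)⁻¹) := by
      rw [← J_eq, ← Equiv.sum_comp (Equiv.neg F)]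
      simp only [Equiv.neg_apply, neg_neg]
    rw [Finset.sum_congr rfl fun y _ => h2 y, Fintype.sum_prod_type]
    refine Eq.trans (Fintype.sum_mul_sum (fun x => Ψ (GL2.mk (a : F) x 0 b (by simp)))
      (fun y => conj (Φ (GL2.mk (a : F) (-y) 0 (((a * b)⁻¹ : Fˣ) : F) (by simp))))).symm ?_
    rw [J_eq, ← map_sum, h3, map_mul, Complex.conj_natCast]
    ring
  rw [Finset.sum_congr rfl fun z _ => h1 z, ← Finset.mul_sum]
  push_cast
  field_simp

theorem isClassFunction_comp {G : Type*} {Q : Type*} [Group G] [Group Q] (f : G →* Q) {φ : Q → ℂ}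
    (h : IsClassFunction Q φ) : IsClassFunction G (φ ∘ f) := by
  intro a b
  rw [Function.comp_apply, Function.comp_apply, map_mul, map_mul, map_inv]
  exact h _ _

/-- **The inner products.** -/
theorem inner_I {Ψ Φ : GL (Fin 2) F → ℂ} (hΨ : IsClassFunction _ Ψ) (hΦ : IsClassFunction _ Φ) :
    classInner (I Ψ) (I Φ) = classInner Ψ Φ + X Ψ Φ := by
  classical
  have : Fintype (P F) := Fintype.ofFinite _
  have hne : (1 : SpecialLinearGroup (Fin 3) F) ≠ s3 := fun h => s3_notMem (h ▸ (P F).one_mem)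
  have h1 := inner_eq (isClassFunction_comp pi hΨ) (isClassFunction_comp pi hΦ) {1, s3} (by
    intro x hx y hy hxy
    simp only [Finset.mem_insert, Finset.mem_singleton] at hx hy
    rcases hx with rfl | rfl <;> rcases hy with rfl | rfl
    · rfl
    · obtain ⟨a, ha, b, hb, h⟩ := hxy
      exact absurd (h ▸ (P F).mul_mem ((P F).mul_mem ha (P F).one_mem) hb) s3_notMem
    · obtain ⟨a, ha, b, hb, h⟩ := hxy
      exfalso
      apply s3_notMem (F := F)
      have h2 : (s3 : SpecialLinearGroup (Fin 3) F) = a⁻¹ * b⁻¹ := by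
        have : s3 = a⁻¹ * (a * s3 * b) * b⁻¹ := by group
        rw [this, ← h]; group
      rw [h2]
      exact (P F).mul_mem ((P F).inv_mem ha) ((P F).inv_mem hb)
    · rfl) (by
    intro x _
    by_cases hx : x ∈ P F
    · exact ⟨1, by simp, ⟨x, hx, 1, (P F).one_mem, by simp⟩⟩
    · exact ⟨s3, by simp, mem_dbl_s3 hx⟩)
  rw [Finset.sum_pair hne, mterm_s3] at h1
  unfold I
  rw [h1]
  congr 1
  have h2 := twist_eq (T := P F) (α := Ψ ∘ pi) (β := Φ ∘ pi) (1 : SpecialLinearGroup (Fin 3) F)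
  rw [twist_of_mem (P F) _ _ (isClassFunction_comp pi hΦ) 1 (P F).one_mem, classInner_comp_surj pi pi_surj] at h2
  have h3 : dsub (P F) (1 : SpecialLinearGroup (Fin 3) F) = ⊤ := by
    rw [eq_top_iff]
    intro t _
    rw [mem_dsub]
    simp
  rw [h3, Subgroup.card_top] at h2
  exact (mul_left_cancel₀ card_ne_zero' h2).symm

theorem isCharacter_I {Ψ : GL (Fin 2) F → ℂ} (h : IsCharacter _ Ψ) : IsCharacter _ (I Ψ) :=
  OddOrderCharacters.IndRes.isCharacter_indFun _ (isCharacter_comp pi h)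

end inner

end Cfsg.Agent.H612.Deg3
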